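import Cfsg.Agent.H553.AF.QAct
import Cfsg.Agent.H845.OC.QSim
import Cfsg.Agent.H151.OwnO.Plus

/-!
# The adjoint frame of type `D` of `PΩ⁺` (S4829, own characteristic; helper553)

`W` a hyperbolic Witt frame of a quadratic form `Q`, `K = PΩ(Q) = E Q / scalars`.

* `pr z` : the pair of signed indices of a root; `xc z t` : the root element;
* `DS` : the diagonal similitudes, `DD ≤ MulAut K` its image; `sys : H928.Ad.Sys`;
* `data : H928.Ad.Data` and `anti` for the plus form.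
-/

set_option autoImplicit false
set_option linter.unusedSectionVars false

namespace Cfsg.Agent.H553.AF.PlusD

open Cfsg QuadraticMap Cfsg.Agent.Nodes
open Cfsg.Agent.ChevalleyStructure.CoxeterGeom Cfsg.Agent.Tits.Roots
open Cfsg.Agent.Nodes.TypeC (wt wt_apply ng ng_ng ng_fst ng_snd wt_ng)
open Cfsg.Agent.Nodes.TypeD
open Cfsg.Agent.Nodes.Comb Cfsg.Agent.Nodes.Reps Cfsg.Agent.Nodes.WittRoot Cfsg.Agent.Nodes.BNOf
open Cfsg.Agent.Nodes.WittRGD (Tor mem_Tor)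
open Cfsg.Agent.Nodes.WittInst Cfsg.Agent.Nodes.Bruhat Cfsg.Agent.Nodes.RGDLib
open Cfsg.Agent.TitsThree Cfsg.Agent.TitsThree.Siegel Cfsg.Agent.TitsThree.SiegelGen
  Cfsg.Agent.TitsThree.WittFrame Cfsg.Agent.TitsThree.WittWeyl Cfsg.Agent.TitsThree.WBridge
  Cfsg.Agent.TitsThree.KSideO
open Cfsg.Agent.LieClassical Cfsg.Agent.LieClassical.OrthCore Cfsg.Agent.LieClassical.OrthTrans
open Cfsg.Agent.LieClassical.OrthSimple Cfsg.Agent.LieClassical.OrthFinite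
open Cfsg.Agent.H553.AF Cfsg.Agent.H845.OC Cfsg.Agent.H151.OwnO

variable {n : ℕ}

/-! ### the pair of a root -/

/-- a pair of signed indices with `ee z = wt a + wt b` -/
noncomputable def pr (z : Fin (n + 2) → ℤ) : (Fin (n + 2) × Bool) × (Fin (n + 2) × Bool) := by
  classical
  exact if h : ∃ q : (Fin (n + 2) × Bool) × (Fin (n + 2) × Bool), Ok q.1 q.2 ∧ ee z = wt q.1 + wt q.2 then h.choose
    else ((0, true), (1, true))

theorem pr_ok (z : Fin (n + 2) → ℤ) : (pr z).1.1 ≠ (pr z).2.1 := by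
  unfold pr
  split_ifs with h
  · exact h.choose_spec.1
  · simp [Fin.ext_iff]

theorem pr_root {W : Type*} [Group W] {cs : CoxeterSystem (M n) W} {z : Fin (n + 2) → ℤ}
    (hz : IsRoot cs (isCartan n) z) : ee z = wt (pr z).1 + wt (pr z).2 := by
  have h' : ∃ q : (Fin (n + 2) × Bool) × (Fin (n + 2) × Bool), Ok q.1 q.2 ∧ ee z = wt q.1 + wt q.2 := by
    obtain ⟨a, b, h1, h2⟩ := exists_of_isRoot cs hz
    exact ⟨(a, b), h1, h2⟩
  unfold pr
  rw [dif_pos h']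
  exact h'.choose_spec.2

theorem pr_eq {W : Type*} [Group W] {cs : CoxeterSystem (M n) W} {z : Fin (n + 2) → ℤ}
    (hz : IsRoot cs (isCartan n) z) {a b : Fin (n + 2) × Bool} (hab : Ok a b) (e : ee z = wt a + wt b) :
    (a = (pr z).1 ∧ b = (pr z).2) ∨ (a = (pr z).2 ∧ b = (pr z).1) :=
  wt_add_eq hab (pr_ok z) (e.symm.trans (pr_root hz))

attribute [irreducible] pr

section Gen

variable {ι : Type} [Fintype ι] [DecidableEq ι] {F : Type*} [Field F] {Q : QuadraticForm F (ι → F)}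
  (W : WFrame (PO Q) (n + 2))

theorem X_swap' {x y : Fin (n + 2) × Bool} (h : x.1 ≠ y.1) (t : F) :
    (toFrame W).X x y t = (toFrame W).X y x (-t) := by
  have h1 := (toFrame W).X_swap h t
  rw [eta, eta, mul_one, mul_one] at h1
  have h2 : -((HO Q).ε⁻¹ * (HO Q).σ t) = -t := by
    change -((1 : F)⁻¹ * t) = -t
    rw [inv_one, one_mul]
  rwa [h2] at h1

/-- conjugation by a similitude -/
theorem conj_root {k : F} {g : (ι → F) ≃ₗ[F] (ι → F)} (hg : IsSim (HO Q) k g) {x y x' y' : Fin (n + 2) × Bool}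
    (h : x.1 ≠ y.1) (h' : x'.1 ≠ y'.1) {l m : F} (hx : g ((toFrame W).b x) = l • (toFrame W).b x')
    (hy : g ((toFrame W).b y) = m • (toFrame W).b y') (t : F) :
    g * (toFrame W).X x y t * g⁻¹ = (toFrame W).X x' y' (l * m * k⁻¹ * t) := by
  rw [conj_X_sim (toFrame W) hg h h' hx hy t, eta, eta]
  congr 1
  change l * m * k⁻¹ * (1 : F)⁻¹ * 1 * t = _
  rw [inv_one, mul_one, mul_one]

/-! ### the model -/

/-- **`E Q → PΩ(Q)` is the quotient by the scalars** -/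
theorem qm (hG : Good Q) : QM (E Q) (toPOmega hG) where
  surj := toPOmega_surjective hG
  sc k hk v := (scalar_of_center hG (center_of_toPOmega hG hk)).imp fun _ h => h v
  ker k hk := by
    have h1 : toOmega hG k ∈ Subgroup.center (Cfsg.Omega F ⇑Q) := by
      rw [Subgroup.mem_center_iff]
      intro A
      obtain ⟨a, rfl⟩ := (toOmega hG).surjective A
      have e : a * k = k * a := by
        apply Subtype.ext
        ext1 v
        exact comm_of_lines hk a.1 v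
      rw [← map_mul, ← map_mul, e]
    exact (QuotientGroup.eq_one_iff _).2 h1

variable (hG : Good Q)

/-- the root element of a pair -/
noncomputable def xb (q : (Fin (n + 2) × Bool) × (Fin (n + 2) × Bool)) (t : F) : Cfsg.POmega F ⇑Q :=
  toPOmega hG ⟨(toFrame W).X q.1 q.2 t, X_mem W _ _ _⟩

/-- **the coordinates** -/
noncomputable def xc (z : Fin (n + 2) → ℤ) (t : F) : Cfsg.POmega F ⇑Q := xb W hG (pr z) t

theorem xb_add (q : (Fin (n + 2) × Bool) × (Fin (n + 2) × Bool)) (s t : F) :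
    xb W hG q (s + t) = xb W hG q s * xb W hG q t := by
  unfold xb
  rw [← map_mul]
  exact congrArg (toPOmega hG) (Subtype.ext ((toFrame W).X_add q.1 q.2 s t))

theorem xb_neg (q : (Fin (n + 2) × Bool) × (Fin (n + 2) × Bool)) (t : F) : xb W hG q (-t) = (xb W hG q t)⁻¹ := by
  unfold xb
  rw [← map_inv]
  exact congrArg (toPOmega hG) (Subtype.ext ((toFrame W).X_neg q.1 q.2 t))

theorem xb_inj {q : (Fin (n + 2) × Bool) × (Fin (n + 2) × Bool)} (h : q.1.1 ≠ q.2.1) :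
    Function.Injective (xb W hG q) := by
  intro s t e
  have h1 : xb W hG q (t - s) = 1 := by
    rw [sub_eq_add_neg, xb_add, xb_neg, e, mul_inv_cancel]
  obtain ⟨a, ha⟩ := (qm hG).sc _ h1 ((toFrame W).b (neg q.2))
  have ha' : (toFrame W).X q.1 q.2 (t - s) ((toFrame W).b (neg q.2)) = a • (toFrame W).b (neg q.2) := ha
  rw [X_apply_neg (toFrame W) h] at ha'
  have h3 : (t - s) • (toFrame W).b q.1 = (a - 1) • (toFrame W).b (neg q.2) := by
    rw [sub_smul a, one_smul, ← ha']; abel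
  have h4 := congrArg (fun v => (HO Q).h v ((toFrame W).b (neg q.1))) h3
  simp only [(HO Q).smul_left] at h4
  have h5 : (HO Q).h ((toFrame W).b (neg q.2)) ((toFrame W).b (neg q.1)) = 0 :=
    (toFrame W).hb_of_ne (fun h' => h h'.symm)
  rw [h5, mul_zero, (toFrame W).hb_self_neg] at h4
  rcases mul_eq_zero.1 h4 with h6 | h6
  · exact (sub_eq_zero.1 h6).symm
  · exact absurd h6 ((toFrame W).η_ne _)

theorem mem_XD {G : Type*} [Group G] {cs : CoxeterSystem (M n) G} {z : Fin (n + 2) → ℤ}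
    (hz : IsRoot cs (isCartan n) z) (k : Cfsg.POmega F ⇑Q) :
    k ∈ XD W (toPOmega hG) z ↔ ∃ a : F, xc W hG z a = k := by
  unfold XD
  rw [WittRGDD.rg_eq (toFrame W) (pr_ok z) (pr_root hz)]
  constructor
  · rintro ⟨g, ⟨t, ht⟩, rfl⟩
    exact ⟨t, congrArg (toPOmega hG) (Subtype.ext ht.symm)⟩
  · rintro ⟨a, rfl⟩
    exact ⟨⟨_, X_mem W _ _ _⟩, ⟨a, rfl⟩, rfl⟩

/-! ### the action on the root elements -/

theorem qact_xb {k : F} {g : ↥(Subgroup.normalizer ((E Q : Subgroup ((ι → F) ≃ₗ[F] (ι → F))) : Set ((ι → F) ≃ₗ[F] (ι → F))))}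
    (hg : IsSim (HO Q) k g.1) {q q' : (Fin (n + 2) × Bool) × (Fin (n + 2) × Bool)}
    (h : q.1.1 ≠ q.2.1) (h' : q'.1.1 ≠ q'.2.1) {l m : F} (hx : g.1 ((toFrame W).b q.1) = l • (toFrame W).b q'.1)
    (hy : g.1 ((toFrame W).b q.2) = m • (toFrame W).b q'.2) (t : F) :
    qact (qm hG) g (xb W hG q t) = xb W hG q' (l * m * k⁻¹ * t) := by
  unfold xb
  rw [qact_φ]
  exact congrArg (toPOmega hG) (Subtype.ext (conj_root W hg h h' hx hy t))

/-- the same with the pair exchanged -/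
theorem qact_xb' {k : F} {g : ↥(Subgroup.normalizer ((E Q : Subgroup ((ι → F) ≃ₗ[F] (ι → F))) : Set ((ι → F) ≃ₗ[F] (ι → F))))}
    (hg : IsSim (HO Q) k g.1) {q q' : (Fin (n + 2) × Bool) × (Fin (n + 2) × Bool)}
    (h : q.1.1 ≠ q.2.1) (h' : q'.1.1 ≠ q'.2.1) {l m : F} (hx : g.1 ((toFrame W).b q.1) = l • (toFrame W).b q'.2)
    (hy : g.1 ((toFrame W).b q.2) = m • (toFrame W).b q'.1) (t : F) :
    qact (qm hG) g (xb W hG q t) = xb W hG q' (-(l * m * k⁻¹) * t) := by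
  have h1 : xb W hG q t = xb W hG (q.2, q.1) (-t) := congrArg (toPOmega hG) (Subtype.ext (X_swap' W h t))
  rw [h1, qact_xb W hG hg (q := (q.2, q.1)) (q' := q') h.symm h' hy hx]
  congr 1
  ring

theorem mono_xb {k : F} {g : ↥(Subgroup.normalizer ((E Q : Subgroup ((ι → F) ≃ₗ[F] (ι → F))) : Set ((ι → F) ≃ₗ[F] (ι → F))))}
    (hg : IsSim (HO Q) k g.1) {π : Fin (n + 2) × Bool → Fin (n + 2) × Bool} (hm : Mono (toFrame W) g.1 π)
    {q q' : (Fin (n + 2) × Bool) × (Fin (n + 2) × Bool)} (h : q.1.1 ≠ q.2.1) (h' : q'.1.1 ≠ q'.2.1)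
    (e : (π q.1 = q'.1 ∧ π q.2 = q'.2) ∨ (π q.1 = q'.2 ∧ π q.2 = q'.1)) :
    ∃ c : F, c ≠ 0 ∧ ∀ a, qact (qm hG) g (xb W hG q a) = xb W hG q' (c * a) := by
  obtain ⟨l, hl0, hl⟩ := hm q.1
  obtain ⟨m, hm0, hm'⟩ := hm q.2
  have hc : l * m * k⁻¹ ≠ 0 := mul_ne_zero (mul_ne_zero hl0 hm0) (inv_ne_zero hg.ne)
  rcases e with ⟨e1, e2⟩ | ⟨e1, e2⟩
  · rw [e1] at hl
    rw [e2] at hm'
    exact ⟨_, hc, fun a => qact_xb W hG hg h h' hl hm' a⟩
  · rw [e1] at hl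
    rw [e2] at hm'
    exact ⟨_, neg_ne_zero.2 hc, fun a => qact_xb' W hG hg h h' hl hm' a⟩

/-! ### the Weyl elements -/

variable (hA : Amb (toFrame W) (E Q))

/-- the Weyl elements of `K` -/
noncomputable def nk (i : Fin (n + 2)) : Cfsg.POmega F ⇑Q :=
  toPOmega hG ⟨WittRGDD.nn (toFrame W) i, WittRGDD.nn_mem hA i⟩

theorem isSim_of_mem {k : (ι → F) ≃ₗ[F] (ι → F)} (hk : k ∈ E Q) : IsSim (HO Q) 1 k := (QSim.of_O (E_le_O hk)).isSim

theorem conj_eq (k : ↥(E Q)) : MulAut.conj (toPOmega hG k) = qact (qm hG) ⟨k.1, Subgroup.le_normalizer k.2⟩ :=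
  (qact_of_mem (qm hG) k).symm

theorem nact {G : Type*} [Group G] (cs : CoxeterSystem (M n) G) (i : Fin (n + 2)) {z : Fin (n + 2) → ℤ}
    (hz : IsRoot cs (isCartan n) z) :
    ∃ c : F, c ≠ 0 ∧ ∀ a, nk W hG hA i * xc W hG z a * (nk W hG hA i)⁻¹ =
      xc W hG (rep cs (isCartan n) (cs.simple i) z) (c * a) := by
  have hz' := hz.act (cs.simple i)
  have h3 : ee (rep cs (isCartan n) (cs.simple i) z) = wt (sg i (pr z).1) + wt (sg i (pr z).2) := by
    rw [rep_simple]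
    exact ee_refl_of (pr_root hz)
  have h4 := pr_eq hz' (Ok.sg (pr_ok z) i) h3
  obtain ⟨c, hc, e⟩ := mono_xb W hG (g := ⟨WittRGDD.nn (toFrame W) i, Subgroup.le_normalizer (WittRGDD.nn_mem hA i)⟩)
    (isSim_of_mem (WittRGDD.nn_mem hA i)) (WittRGDD.mono_nn i) (pr_ok z)
    (pr_ok (rep cs (isCartan n) (cs.simple i) z)) h4
  refine ⟨c, hc, fun a => ?_⟩
  rw [← MulAut.conj_apply]
  unfold nk
  rw [conj_eq hG]
  exact e a

theorem tact {G : Type*} [Group G] (cs : CoxeterSystem (M n) G) {z : Fin (n + 2) → ℤ}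
    (hz : IsRoot cs (isCartan n) z) {t : Cfsg.POmega F ⇑Q}
    (ht : t ∈ ((Tor (toFrame W) (E Q)).subgroupOf (E Q)).map (toPOmega hG)) :
    ∃ c : F, c ≠ 0 ∧ ∀ a, t * xc W hG z a * t⁻¹ = xc W hG z (c * a) := by
  have _ := hz
  obtain ⟨k, hk, rfl⟩ := ht
  have hk' : k.1 ∈ Tor (toFrame W) (E Q) := hk
  obtain ⟨c, hc, e⟩ := mono_xb W hG (g := ⟨k.1, Subgroup.le_normalizer k.2⟩)
    (isSim_of_mem k.2) hk'.2 (pr_ok z) (pr_ok z) (Or.inl ⟨rfl, rfl⟩)
  refine ⟨c, hc, fun a => ?_⟩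
  rw [← MulAut.conj_apply, conj_eq hG]
  exact e a

/-- **the system of coordinates** -/
theorem sys {G : Type*} [Group G] (cs : CoxeterSystem (M n) G) :
    Cfsg.Agent.H928.Ad.Sys (K := fun _ => F) cs (isCartan n) (((Tor (toFrame W) (E Q)).subgroupOf (E Q)).map (toPOmega hG))
      (nk W hG hA) (XD W (toPOmega hG)) (xc W hG) where
  mem _ hz k := mem_XD W hG hz k
  inj z _ := xb_inj W hG (pr_ok z)
  add _ _ a b := xb_add W hG _ a b
  tor _ hz _ ht := tact W hG cs hz ht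
  nact i _ hz := by
    obtain ⟨c, hc, e⟩ := nact W hG hA cs i hz
    exact ⟨RingEquiv.refl F, c, hc, e⟩

/-! ### the torus of diagonal similitudes -/

/-- the diagonal similitudes -/
def DS : Subgroup ((ι → F) ≃ₗ[F] (ι → F)) where
  carrier := {g | (∃ l, QSim Q l g) ∧ Mono (toFrame W) g id}
  one_mem' := by
    refine ⟨⟨1, one_ne_zero, fun v => ?_⟩, fun x => ⟨1, one_ne_zero, ?_⟩⟩
    · rw [one_mul]; rfl
    · rw [one_smul]; rfl
  mul_mem' := by
    rintro g g' ⟨⟨l, hl⟩, hm⟩ ⟨⟨l', hl'⟩, hm'⟩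
    exact ⟨⟨_, hl.mul hl'⟩, (hm.mul hm').congr fun _ => rfl⟩
  inv_mem' := by
    rintro g ⟨⟨l, hl⟩, hm⟩
    exact ⟨⟨_, hl.inv⟩, (hm.inv fun _ => rfl).congr fun _ => rfl⟩

theorem DS_norm : DS W ≤ Subgroup.normalizer ((E Q : Subgroup ((ι → F) ≃ₗ[F] (ι → F))) : Set ((ι → F) ≃ₗ[F] (ι → F))) := by
  rintro g ⟨⟨l, hl⟩, -⟩
  exact hl.norm

theorem tor_le_DS : Tor (toFrame W) (E Q) ≤ DS W := by
  rintro g hg
  exact ⟨⟨1, QSim.of_O (E_le_O hg.1)⟩, hg.2⟩

/-- **the torus of the adjoint group** -/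
noncomputable def DD : Subgroup (MulAut (Cfsg.POmega F ⇑Q)) :=
  ((DS W).subgroupOf (Subgroup.normalizer ((E Q : Subgroup ((ι → F) ≃ₗ[F] (ι → F))) : Set ((ι → F) ≃ₗ[F] (ι → F))))).map
    (qact (qm hG))

theorem mem_DD {β : MulAut (Cfsg.POmega F ⇑Q)} :
    β ∈ DD W hG ↔ ∃ g : ↥(DS W), qact (qm hG) ⟨g.1, DS_norm W g.2⟩ = β := by
  constructor
  · rintro ⟨g, hg, rfl⟩
    exact ⟨⟨g.1, hg⟩, rfl⟩
  · rintro ⟨g, rfl⟩
    exact ⟨⟨g.1, DS_norm W g.2⟩, g.2, rfl⟩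

theorem DD_le {G : Type*} [Group G] (cs : CoxeterSystem (M n) G) :
    DD W hG ≤ Cfsg.Agent.H928.Ad.Dg (K := fun _ => F) cs (isCartan n) (xc W hG) := by
  intro β hβ z hz
  have _ := hz
  obtain ⟨g, rfl⟩ := (mem_DD W hG).1 hβ
  obtain ⟨⟨l, hl⟩, hm⟩ := g.2
  exact mono_xb W hG (g := ⟨g.1, DS_norm W g.2⟩) hl.isSim hm (pr_ok z) (pr_ok z) (Or.inl ⟨rfl, rfl⟩)

include hA in
theorem nn_norm (i : Fin (n + 2)) :
    WittRGDD.nn (toFrame W) i ∈ Subgroup.normalizer (DS W : Set ((ι → F) ≃ₗ[F] (ι → F))) := by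
  have hn := WittRGDD.nn_mem hA i
  have hm := WittRGDD.mono_nn (Fr := toFrame W) i
  have key : ∀ g : (ι → F) ≃ₗ[F] (ι → F), g ∈ E Q → Mono (toFrame W) g (sg i) → ∀ t ∈ DS W, g * t * g⁻¹ ∈ DS W := by
    rintro g hg hm t ⟨⟨l, hl⟩, hm'⟩
    refine ⟨⟨_, ((QSim.of_O (E_le_O hg)).mul hl).mul (QSim.of_O (E_le_O hg)).inv⟩, ?_⟩
    exact ((hm.mul hm').mul (hm.inv (sg_sg i))).congr fun x => sg_sg i x
  rw [Subgroup.mem_normalizer_iff]
  intro t
  refine ⟨fun ht => key _ hn hm t ht, fun ht => ?_⟩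
  have h1 := key _ (inv_mem hn) (hm.inv (sg_sg i)) _ ht
  have h2 : (WittRGDD.nn (toFrame W) i)⁻¹ * (WittRGDD.nn (toFrame W) i * t * (WittRGDD.nn (toFrame W) i)⁻¹) *
      (WittRGDD.nn (toFrame W) i)⁻¹⁻¹ = t := by group
  rwa [h2] at h1

theorem nk_norm (i : Fin (n + 2)) :
    MulAut.conj (nk W hG hA i) ∈ Subgroup.normalizer (DD W hG : Set (MulAut (Cfsg.POmega F ⇑Q))) := by
  unfold nk
  rw [conj_eq hG, mem_normalizer_iff_cj]
  unfold DD
  rw [cj_map, cj_subgroupOf]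
  exact congrArg (fun S => Subgroup.map (qact (qm hG)) (Subgroup.subgroupOf S _))
    (mem_normalizer_iff_cj.1 (nn_norm W hA i))

end Gen

/-! ### the plus form -/

section Plus

open Cfsg.Agent.LieClassical.OrthForms

variable (m : ℕ) (F : Type*) [Field F]

/-- diagonal maps -/
def dl (d : Fin m ⊕ Fin m → Fˣ) : (Fin m ⊕ Fin m → F) ≃ₗ[F] (Fin m ⊕ Fin m → F) :=
  LinearEquiv.piCongrRight fun j => LinearEquiv.smulOfNeZero F F (d j : F) (d j).ne_zero

variable {F} in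
theorem dl_apply (d : Fin m ⊕ Fin m → Fˣ) (v : Fin m ⊕ Fin m → F) (j : Fin m ⊕ Fin m) : dl m F d v j = d j * v j := rfl

/-- the index of a signed index -/
def ix (x : Fin m × Bool) : Fin m ⊕ Fin m := if x.2 then Sum.inl x.1 else Sum.inr x.1

theorem b_eq (x : Fin m × Bool) : (toFrame (wplus m F)).b x = Pi.single (ix m x) 1 := by
  obtain ⟨i, s⟩ := x
  cases s <;> rfl

theorem dl_b (d : Fin m ⊕ Fin m → Fˣ) (x : Fin m × Bool) :
    dl m F d ((toFrame (wplus m F)).b x) = (d (ix m x) : F) • (toFrame (wplus m F)).b x := by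
  rw [b_eq]
  funext j
  rw [dl_apply, Pi.smul_apply, smul_eq_mul]
  by_cases h : j = ix m x
  · rw [h]
  · rw [Pi.single_eq_of_ne h, mul_zero, mul_zero]

theorem dl_qsim {d : Fin m ⊕ Fin m → Fˣ} {l : Fˣ} (h : ∀ i, d (Sum.inl i) * d (Sum.inr i) = l) :
    QSim (plusForm m F) (l : F) (dl m F d) := by
  refine ⟨l.ne_zero, fun v => ?_⟩
  rw [coe_plusForm, quadFormPlus_apply, quadFormPlus_apply, Finset.mul_sum]
  refine Finset.sum_congr rfl fun i _ => ?_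
  rw [dl_apply, dl_apply, ← h i, Units.val_mul]
  ring

theorem dl_mem_DS {d : Fin (n + 2) ⊕ Fin (n + 2) → Fˣ} {l : Fˣ} (h : ∀ i, d (Sum.inl i) * d (Sum.inr i) = l) :
    dl (n + 2) F d ∈ DS (wplus (n + 2) F) :=
  ⟨⟨_, dl_qsim (n + 2) F h⟩, fun x => ⟨_, (d (ix _ x)).ne_zero, dl_b (n + 2) F d x⟩⟩

variable {m F}

theorem qact_dl (hG : Good (plusForm (n + 2) F)) {d : Fin (n + 2) ⊕ Fin (n + 2) → Fˣ} {l : Fˣ}
    (h : ∀ i, d (Sum.inl i) * d (Sum.inr i) = l) (i : Fin (n + 2)) (a : F) :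
    qact (qm hG) ⟨dl (n + 2) F d, DS_norm _ (dl_mem_DS F h)⟩ (xc (wplus (n + 2) F) hG (sr i) a) =
      xc (wplus (n + 2) F) hG (sr i) ((d (Sum.inl i) * d (ix _ (nx i)) * l⁻¹ : Fˣ) * a) := by
  have hz := isRoot_sr (TypeD.M n).toCoxeterSystem (isCartan n) i
  have h1 := pr_eq hz (ok_nx i) (ee_sr i)
  unfold xc
  rw [qact_xb (wplus (n + 2) F) hG (g := ⟨dl (n + 2) F d, DS_norm _ (dl_mem_DS F h)⟩) (dl_qsim (n + 2) F h).isSim
    (pr_ok (sr i)) (pr_ok (sr i)) (dl_b (n + 2) F d _) (dl_b (n + 2) F d _)]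
  congr 2
  rw [Units.val_mul, Units.val_mul, Units.val_inv_eq_inv_val]
  congr 1
  rcases h1 with ⟨e1, e2⟩ | ⟨e1, e2⟩
  · rw [← e1, ← e2]
    rfl
  · rw [← e1, ← e2, mul_comm]
    rfl

theorem full_plus (hG : Good (plusForm (n + 2) F)) (c : Fin (n + 2) → F) (hc : ∀ i, c i ≠ 0) :
    ∃ β ∈ DD (wplus (n + 2) F) hG, ∀ i a, β (xc (wplus (n + 2) F) hG (sr i) a) =
      xc (wplus (n + 2) F) hG (sr i) (c i * a) := by
  classical
  let cu : Fin (n + 2) → Fˣ := fun i => Units.mk0 (c i) (hc i)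
  let v : Fin (n + 2) → Fˣ := fun j => if (j : ℕ) + 1 < n + 2 then cu j else 1
  let D : Fin (n + 2) → Fˣ := fun k => ∏ j ∈ Finset.Ici k, v j
  let l : Fˣ := D (Fin.last (n + 1)) * D (pd n) * (cu (Fin.last (n + 1)))⁻¹
  let d : Fin (n + 2) ⊕ Fin (n + 2) → Fˣ := Sum.elim D (fun k => l * (D k)⁻¹)
  have hd : ∀ i, d (Sum.inl i) * d (Sum.inr i) = l := by
    intro i
    change D i * (l * (D i)⁻¹) = l
    rw [mul_comm l, mul_inv_cancel_left]
  refine ⟨qact (qm hG) ⟨dl (n + 2) F d, DS_norm _ (dl_mem_DS F hd)⟩,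
    (mem_DD _ hG).2 ⟨⟨dl (n + 2) F d, dl_mem_DS F hd⟩, rfl⟩, fun i a => ?_⟩
  rw [qact_dl hG hd i a]
  congr 2
  have key : D i * d (ix _ (nx i)) * l⁻¹ = cu i := by
    by_cases hi : (i : ℕ) + 1 < n + 2
    · have hnx : nx i = (⟨i + 1, hi⟩, false) := by unfold nx; rw [dif_pos hi]
      rw [hnx]
      change D i * (l * (D ⟨i + 1, hi⟩)⁻¹) * l⁻¹ = cu i
      have hI : Finset.Ici i = insert i (Finset.Ici (⟨i + 1, hi⟩ : Fin (n + 2))) := by
        ext j
        simp only [Finset.mem_Ici, Finset.mem_insert, Fin.le_def, Fin.ext_iff]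
        omega
      have hD : D i = v i * D ⟨i + 1, hi⟩ := by
        change ∏ j ∈ Finset.Ici i, v j = _
        rw [hI, Finset.prod_insert (by simp [Fin.le_def])]
      have hv : v i = cu i := if_pos hi
      rw [hD, hv, mul_comm l, mul_assoc (cu i), mul_inv_cancel_left, mul_assoc, mul_inv_cancel, mul_one]
    · have hnx : nx i = (pd n, true) := by unfold nx; rw [dif_neg hi]
      have hiL : i = Fin.last (n + 1) := by
        apply Fin.ext
        have := i.2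
        simp only [Fin.val_last]
        omega
      rw [hnx, hiL]
      change D (Fin.last (n + 1)) * D (pd n) * (D (Fin.last (n + 1)) * D (pd n) * (cu (Fin.last (n + 1)))⁻¹)⁻¹ = _
      rw [mul_inv, inv_inv, mul_inv_cancel_left]
  exact congrArg Units.val key

variable [Finite F] {p : ℕ} [Fact p.Prime] [CharP F p]

include p in
theorem center_plus (hG : Good (plusForm (n + 2) F)) : Subgroup.center (Cfsg.POmega F ⇑(plusForm (n + 2) F)) = ⊥ := by
  have hs := isSimpleGroup_POmega_of_good hG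
  rcases hs.eq_bot_or_eq_top_of_normal (Subgroup.center (Cfsg.POmega F ⇑(plusForm (n + 2) F))) inferInstance with h | h
  · exact h
  exfalso
  have : Finite (TypeD.M n).Group := finite_W (TypeD.M n).toCoxeterSystem
  have hR := rgdD_model (wplus (n + 2) F) hG (amb_plus _) (adm_plus _) (p := p) (TypeD.M n).toCoxeterSystem
  apply hR.notp 0
  have hN : (XD (wplus (n + 2) F) (toPOmega hG) (-sr 0)).Normal := by
    refine ⟨fun a ha g => ?_⟩
    have h1 : g ∈ Subgroup.center (Cfsg.POmega F ⇑(plusForm (n + 2) F)) := by rw [h]; trivial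
    have h2 := Subgroup.mem_center_iff.1 h1 a
    rw [← h2, mul_inv_cancel_right]
    exact ha
  have hz := isRoot_sr (TypeD.M n).toCoxeterSystem (isCartan n) 0
  exact (hR.pgrp' hz).to_sup_of_normal_right (hR.pgrp' hz.neg)

/-- **the adjoint frame of type `D` of `PΩ⁺`** -/
theorem data (hG : Good (plusForm (n + 2) F)) {G : Type*} [Group G] (cs : CoxeterSystem (TypeD.M n) G) :
    Cfsg.Agent.H928.Ad.Data (K := fun _ => F) cs (isCartan n) p
      (((Tor (toFrame (wplus (n + 2) F)) (E (plusForm (n + 2) F))).subgroupOf (E (plusForm (n + 2) F))).map (toPOmega hG))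
      (nk (wplus (n + 2) F) hG (amb_plus _)) (XD (wplus (n + 2) F) (toPOmega hG)) (xc (wplus (n + 2) F) hG)
      (DD (wplus (n + 2) F) hG) where
  rgd := rgdD_model (wplus (n + 2) F) hG (amb_plus _) (adm_plus _) cs
  sys := sys (wplus (n + 2) F) hG (amb_plus _) cs
  g1 := G1D_eq_top (wplus (n + 2) F) (toPOmega hG) (toPOmega_surjective hG) (adm_plus _) cs
  cen := center_plus (p := p) hG
  le := DD_le (wplus (n + 2) F) hG cs
  tor := by
    rintro _ ⟨k, hk, rfl⟩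
    have hk' : k.1 ∈ Tor (toFrame (wplus (n + 2) F)) (E (plusForm (n + 2) F)) := hk
    rw [mem_DD]
    exact ⟨⟨k.1, tor_le_DS _ hk'⟩, (conj_eq hG k).symm⟩
  norm := nk_norm (wplus (n + 2) F) hG (amb_plus _)
  full c hc := full_plus hG c hc

/-! ### the anti-automorphism -/

theorem swp_norm : swp (n + 2) F ∈ Subgroup.normalizer ((E (plusForm (n + 2) F) :
    Subgroup ((Fin (n + 2) ⊕ Fin (n + 2) → F) ≃ₗ[F] (Fin (n + 2) ⊕ Fin (n + 2) → F))) :
      Set ((Fin (n + 2) ⊕ Fin (n + 2) → F) ≃ₗ[F] (Fin (n + 2) ⊕ Fin (n + 2) → F))) :=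
  (QSim.of_O (swp_mem (n + 2) F)).norm

/-- the involution -/
noncomputable def om (hG : Good (plusForm (n + 2) F)) : MulAut (Cfsg.POmega F ⇑(plusForm (n + 2) F)) :=
  qact (qm hG) ⟨swp (n + 2) F, swp_norm⟩

theorem om_sq (hG : Good (plusForm (n + 2) F)) : om hG * om hG = 1 := by
  unfold om
  rw [← map_mul, ← map_one (qact (qm hG))]
  congr 1
  apply Subtype.ext
  ext v z
  change v z.swap.swap = v z
  rw [Sum.swap_swap]

theorem om_X (hG : Good (plusForm (n + 2) F)) {G : Type*} [Group G] {cs : CoxeterSystem (TypeD.M n) G}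
    {z : Fin (n + 2) → ℤ} (hz : IsRoot cs (isCartan n) z) {k : Cfsg.POmega F ⇑(plusForm (n + 2) F)}
    (hk : k ∈ XD (wplus (n + 2) F) (toPOmega hG) z) : om hG k ∈ XD (wplus (n + 2) F) (toPOmega hG) (-z) := by
  obtain ⟨a, rfl⟩ := (mem_XD (wplus (n + 2) F) hG hz k).1 hk
  have e' : ee (-z) = wt (ng (pr z).1) + wt (ng (pr z).2) := by
    rw [ee_neg, pr_root hz, wt_ng, wt_ng]; abel
  have h1 : om hG (xc (wplus (n + 2) F) hG z a) = xb (wplus (n + 2) F) hG (neg (pr z).1, neg (pr z).2)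
      (1 * 1 * (1 : F)⁻¹ * a) :=
    qact_xb (wplus (n + 2) F) hG (g := ⟨swp (n + 2) F, swp_norm⟩) (QSim.of_O (swp_mem (n + 2) F)).isSim
      (pr_ok z) (q' := (neg (pr z).1, neg (pr z).2)) (pr_ok z)
      (by rw [one_smul]; exact swp_b (n + 2) F _) (by rw [one_smul]; exact swp_b (n + 2) F _) a
  rw [h1]
  refine ⟨⟨_, X_mem _ _ _ _⟩, ?_, rfl⟩
  refine Subgroup.mem_subgroupOf.2 ?_
  rw [WittRGDD.rg_eq (toFrame (wplus (n + 2) F)) (a := ng (pr z).1) (b := ng (pr z).2) (pr_ok z) e']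
  exact ⟨_, rfl⟩

theorem ext_b {g g' : (Fin (n + 2) ⊕ Fin (n + 2) → F) ≃ₗ[F] (Fin (n + 2) ⊕ Fin (n + 2) → F)} {l : F}
    (e : ∀ x, g ((toFrame (wplus (n + 2) F)).b x) = l • g' ((toFrame (wplus (n + 2) F)).b x)) (v) : g v = l • g' v := by
  have h1 : (g : (Fin (n + 2) ⊕ Fin (n + 2) → F) →ₗ[F] (Fin (n + 2) ⊕ Fin (n + 2) → F)) =
      l • (g' : (Fin (n + 2) ⊕ Fin (n + 2) → F) →ₗ[F] (Fin (n + 2) ⊕ Fin (n + 2) → F)) := by
    refine (Pi.basisFun F (Fin (n + 2) ⊕ Fin (n + 2))).ext fun j => ?_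
    rw [Pi.basisFun_apply]
    cases j with
    | inl i => exact e (i, true)
    | inr i => exact e (i, false)
  exact LinearMap.congr_fun h1 v

theorem om_D (hG : Good (plusForm (n + 2) F)) {d : MulAut (Cfsg.POmega F ⇑(plusForm (n + 2) F))}
    (hd : d ∈ DD (wplus (n + 2) F) hG) : om hG * d * (om hG)⁻¹ = d⁻¹ := by
  obtain ⟨g, rfl⟩ := (mem_DD _ hG).1 hd
  obtain ⟨⟨l, hl⟩, hm⟩ := g.2
  unfold om
  rw [← map_inv, ← map_mul, ← map_inv, ← map_mul]
  refine qact_smul (qm hG) (c := l) fun v => ?_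
  refine ext_b (g := swp (n + 2) F * g.1 * (swp (n + 2) F)⁻¹) (g' := g.1⁻¹) (l := l) (fun x => ?_) v
  obtain ⟨a, ha0, ha⟩ := hm x
  obtain ⟨a', ha0', ha'⟩ := hm (neg x)
  have ha1 : g.1 ((toFrame (wplus (n + 2) F)).b x) = a • (toFrame (wplus (n + 2) F)).b x := ha
  have ha2 : g.1 ((toFrame (wplus (n + 2) F)).b (neg x)) = a' • (toFrame (wplus (n + 2) F)).b (neg x) := ha'
  have h1 : a * a' = l := by
    have h2 := hl.isSim.sim ((toFrame (wplus (n + 2) F)).b x) ((toFrame (wplus (n + 2) F)).b (neg x))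
    rw [ha1, ha2, HForm.smul_left, HForm.smul_right, (toFrame (wplus (n + 2) F)).hb_self_neg, eta, mul_one, mul_one] at h2
    exact h2
  have h2 : (swp (n + 2) F)⁻¹ ((toFrame (wplus (n + 2) F)).b x) = (toFrame (wplus (n + 2) F)).b (neg x) := by
    have h3 : (swp (n + 2) F)⁻¹ (swp (n + 2) F ((toFrame (wplus (n + 2) F)).b (neg x))) =
        (toFrame (wplus (n + 2) F)).b (neg x) := (swp (n + 2) F).symm_apply_apply _
    rwa [swp_b, WittFrame.neg_neg] at h3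
  have h3 : g.1⁻¹ ((toFrame (wplus (n + 2) F)).b x) = a⁻¹ • (toFrame (wplus (n + 2) F)).b x := by
    have h4 : g.1⁻¹ (g.1 ((toFrame (wplus (n + 2) F)).b x)) = (toFrame (wplus (n + 2) F)).b x := g.1.symm_apply_apply _
    conv_rhs => rw [← h4, ha1]
    rw [map_smul, smul_smul, inv_mul_cancel₀ ha0, one_smul]
  change swp (n + 2) F (g.1 ((swp (n + 2) F)⁻¹ ((toFrame (wplus (n + 2) F)).b x))) =
    l • g.1⁻¹ ((toFrame (wplus (n + 2) F)).b x)
  rw [h2, h3, ha2, map_smul, swp_b, WittFrame.neg_neg, smul_smul, ← h1, mul_comm a, mul_assoc, mul_inv_cancel₀ ha0, mul_one]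

include p in
/-- **the anti-automorphism** -/
theorem anti (hG : Good (plusForm (n + 2) F)) {G : Type*} [Group G] (cs : CoxeterSystem (TypeD.M n) G) :
    ∃ φ : ↥(Cfsg.Agent.H928.Ad.Gad (DD (wplus (n + 2) F) hG)) → ↥(Cfsg.Agent.H928.Ad.Gad (DD (wplus (n + 2) F) hG)),
      (∀ g, (φ g : MulAut (Cfsg.POmega F ⇑(plusForm (n + 2) F))) = om hG * (g : MulAut _)⁻¹ * (om hG)⁻¹) ∧
      Cfsg.Agent.H92.GG.Anti cs (isCartan n) (Cfsg.Agent.H928.Ad.Tad (DD (wplus (n + 2) F) hG))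
        (Cfsg.Agent.H928.Ad.Xad (XD (wplus (n + 2) F) (toPOmega hG)) (DD (wplus (n + 2) F) hG)) φ :=
  (data (p := p) hG cs).anti (om_sq hG) (fun _ hz _ hk => om_X hG hz hk) (fun _ hd => om_D hG hd)

end Plus

end Cfsg.Agent.H553.AF.PlusD
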