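import Cfsg.Agent.H553.AF.Sim
import Cfsg.Agent.H356.AQ.Quot

/-!
# The root group datum of a Witt frame with the torus of all diagonal similitudes (S4884; helper553)

* `DG Fr G0 p0 p DS` : `DS` is an abelian `p'`-group of diagonal similitudes containing the torus, normalised by the `nn i`;
* `DG.rgd` : the root group datum of `V ≃ₗ V` with torus `DS`; `DG.rgdG` : of `G = G0 ⊔ DS`;
* `cf`, `ml` : the coefficients and the multiplier of the elements of `DS`; `conj_X`, `conj_Z`.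
-/

set_option autoImplicit false
set_option linter.unusedSectionVars false

namespace Cfsg.Agent.H553.AF

open Cfsg.Agent.ChevalleyStructure.CoxeterGeom Cfsg.Agent.Tits.Roots Cfsg.Agent.Nodes.TypeC
open Cfsg.Agent.Nodes.Comb Cfsg.Agent.Nodes.Reps Cfsg.Agent.Nodes.WittRoot Cfsg.Agent.Nodes.BNOf
open Cfsg.Agent.Nodes.WittRGD Cfsg.Agent.Nodes.RGDLib Cfsg.Agent.Nodes.Bruhat
open Cfsg.Agent.TitsThree Cfsg.Agent.TitsThree.Siegel Cfsg.Agent.TitsThree.WittFrame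
  Cfsg.Agent.TitsThree.WittWeyl Cfsg.Agent.TitsThree.FrameCN

variable {F : Type*} [Field F] {V : Type*} [AddCommGroup V] [Module F V] {H : HForm F V} {n : ℕ}
  {Fr : Frame H (Fin n)} {G0 : Subgroup (V ≃ₗ[F] V)} {p0 : Fr.Adm} {p : ℕ} {DS : Subgroup (V ≃ₗ[F] V)}

/-- A group of diagonal similitudes. -/
structure DG (Fr : Frame H (Fin n)) (G0 : Subgroup (V ≃ₗ[F] V)) (p0 : Fr.Adm) (p : ℕ)
    (DS : Subgroup (V ≃ₗ[F] V)) : Prop where
  sim : ∀ g ∈ DS, ∃ l, IsSim H l g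
  mono : ∀ g ∈ DS, Mono Fr g id
  ok : ∀ g ∈ DS, ∀ l, IsSim H l g → ∀ v c, Fr.ok v c → Fr.ok (g v) (l * c)
  tor : Tor Fr G0 ≤ DS
  comm : ∀ g ∈ DS, ∀ g' ∈ DS, Commute g g'
  nn : ∀ i, ∀ g ∈ DS, nn Fr p0 i * g * (nn Fr p0 i)⁻¹ ∈ DS
  cop : (Nat.card DS).Coprime p

theorem b_ne (Fr : Frame H (Fin n)) (x : Fin n × Bool) : Fr.b x ≠ 0 := by
  intro h1
  have h2 := Fr.hb_neg_self x
  rw [h1, H.zero_right] at h2
  exact Fr.η_ne x h2.symm

namespace DG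

variable (D : DG Fr G0 p0 p DS)

/-- the coefficients of the elements of `DS` -/
noncomputable def cv (x : Fin n × Bool) (g : ↥DS) : F := (D.mono g g.2 x).choose

theorem cv_ne (x : Fin n × Bool) (g : ↥DS) : D.cv x g ≠ 0 := (D.mono g g.2 x).choose_spec.1

theorem cv_spec (x : Fin n × Bool) (g : ↥DS) : g.1 (Fr.b x) = D.cv x g • Fr.b x := (D.mono g g.2 x).choose_spec.2

theorem cv_unique (x : Fin n × Bool) (g : ↥DS) {c : F} (h : g.1 (Fr.b x) = c • Fr.b x) : D.cv x g = c := by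
  rw [D.cv_spec] at h
  exact smul_left_injective F (b_ne Fr x) h

/-- the coefficients of the elements of `DS` -/
noncomputable def cf (x : Fin n × Bool) : ↥DS →* Fˣ where
  toFun g := Units.mk0 (D.cv x g) (D.cv_ne x g)
  map_one' := by
    apply Units.ext
    refine D.cv_unique x 1 ?_
    rw [Units.val_one, one_smul]
    rfl
  map_mul' g g' := by
    apply Units.ext
    refine D.cv_unique x (g * g') ?_
    change g.1 (g'.1 (Fr.b x)) = (D.cv x g * D.cv x g') • Fr.b x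
    rw [D.cv_spec, map_smul, D.cv_spec, smul_smul, mul_comm]

theorem cf_spec (x : Fin n × Bool) (g : ↥DS) : g.1 (Fr.b x) = (D.cf x g : F) • Fr.b x := D.cv_spec x g

/-- the multiplier -/
noncomputable def mu (g : ↥DS) : F := (D.sim g g.2).choose

theorem mu_spec (g : ↥DS) : IsSim H (D.mu g) g.1 := (D.sim g g.2).choose_spec

theorem cf_mul (x : Fin n × Bool) (g : ↥DS) : (D.cf x g : F) * H.σ (D.cf (neg x) g : F) = D.mu g := by
  have h1 := (D.mu_spec g).sim (Fr.b x) (Fr.b (neg x))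
  rw [D.cf_spec, D.cf_spec, H.smul_left, H.smul_right, ← mul_assoc] at h1
  have h2 : H.h (Fr.b x) (Fr.b (neg x)) ≠ 0 := by
    have := Fr.hb_neg_self (neg x)
    rw [neg_neg] at this
    rw [this]
    exact Fr.η_ne _
  exact mul_right_cancel₀ h2 h1

theorem cf_neg (x : Fin n × Bool) (g : ↥DS) : (D.cf (neg x) g : F) = D.mu g * (H.σ (D.cf x g : F))⁻¹ := by
  have h1 := D.cf_mul x g
  have h2 : H.σ (D.cf x g : F) ≠ 0 := by simp
  have h3 := congrArg H.σ h1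
  rw [map_mul, H.σσ, (D.mu_spec g).fix] at h3
  rw [eq_mul_inv_iff_mul_eq₀ h2, mul_comm]
  exact h3

/-- the multiplier as a homomorphism -/
noncomputable def ml (x0 : Fin n × Bool) : ↥DS →* Fˣ := D.cf x0 * (Units.map (H.σ : F →* F)).comp (D.cf (neg x0))

theorem ml_eq (x0 : Fin n × Bool) (g : ↥DS) : (D.ml x0 g : F) = D.mu g := D.cf_mul x0 g

theorem conj_X {x y : Fin n × Bool} (h : x.1 ≠ y.1) (g : ↥DS) (t : F) :
    g.1 * Fr.X x y t * g.1⁻¹ = Fr.X x y ((D.cf x g : F) * H.σ (D.cf y g : F) * (D.mu g)⁻¹ * t) := by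
  rw [conj_X_sim Fr (D.mu_spec g) h h (D.cf_spec x g) (D.cf_spec y g)]
  congr 1
  have := Fr.η_ne y
  field_simp

/-- the action on the admissible pairs -/
noncomputable def aZ (x : Fin n × Bool) (g : ↥DS) (q : Fr.Adm) : Fr.Adm where
  w := ((D.mu g)⁻¹ * H.σ (D.cf x g : F)) • g.1 q.w
  c := (D.mu g)⁻¹ * ((D.cf x g : F) * H.σ (D.cf x g : F)) * q.c
  ok := by
    have h1 := Fr.ok_smul ((D.mu g)⁻¹ * H.σ (D.cf x g : F)) (D.ok g g.2 _ (D.mu_spec g) _ _ q.ok)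
    have e : (D.mu g)⁻¹ * H.σ (D.cf x g : F) * H.σ ((D.mu g)⁻¹ * H.σ (D.cf x g : F)) * (D.mu g * q.c) =
        (D.mu g)⁻¹ * ((D.cf x g : F) * H.σ (D.cf x g : F)) * q.c := by
      rw [map_mul, map_inv₀, H.σσ, (D.mu_spec g).fix]
      have := (D.mu_spec g).ne
      field_simp
    rwa [e] at h1

theorem conj_Z (x : Fin n × Bool) (g : ↥DS) (q : Fr.Adm) : g.1 * Fr.Z x q * g.1⁻¹ = Fr.Z x (D.aZ x g q) :=
  conj_Z_sim Fr (D.mu_spec g) (D.cf_spec x g) q (D.aZ x g q) rfl rfl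

include D in
theorem conj_PG_le {a b : Fin n × Bool} (hab : Ok a b) (g : ↥DS) : cj g.1 (PG Fr a b) ≤ PG Fr a b := by
  rintro u hu
  rw [mem_cj] at hu
  have e0 : u = g.1 * (g.1⁻¹ * u * g.1) * g.1⁻¹ := by group
  rcases hab with h | rfl
  · rw [PG_ne Fr h] at hu ⊢
    obtain ⟨t, ht⟩ := hu
    rw [e0, ht, D.conj_X h]
    exact ⟨_, rfl⟩
  · rw [PG_self] at hu ⊢
    obtain ⟨q, hq⟩ := hu
    rw [e0, hq, D.conj_Z]
    exact ⟨_, rfl⟩

include D in
theorem cj_PG {a b : Fin n × Bool} (hab : Ok a b) (g : ↥DS) : cj g.1 (PG Fr a b) = PG Fr a b := by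
  apply le_antisymm (D.conj_PG_le hab g)
  have h1 := cj_mono g.1 (D.conj_PG_le hab g⁻¹)
  have h2 : (g⁻¹ : ↥DS).1 = g.1⁻¹ := rfl
  rwa [h2, cj_cj_inv] at h1

variable [Finite V] [Fact p.Prime] [CharP F p]

include D in
/-- **the root group datum with torus `DS`** -/
theorem rgd (hA : Cfsg.Agent.Nodes.WittAll.AmbT Fr p G0) (hp0 : p0.c ≠ 0) {W : Type*} [Group W]
    (cs : CoxeterSystem (CoxeterMatrix.B n) W) :
    RGD cs (isCartan n) p DS (Cfsg.Agent.Nodes.WittRGD.nn Fr p0) (Cfsg.Agent.Nodes.WittRoot.rg Fr) := by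
  have R := Cfsg.Agent.Nodes.WittAll.rgdC hA hp0 cs
  refine Cfsg.Agent.H356.AQ.rgd_enlarge R D.tor (fun i => ?_) (fun x hx t ht => ?_) D.cop
  · rw [Subgroup.mem_normalizer_iff]
    intro g
    refine ⟨fun hg => D.nn i g hg, fun hg => ?_⟩
    have h1 := D.nn i _ hg
    have h2 : Cfsg.Agent.Nodes.WittRGD.nn Fr p0 i * Cfsg.Agent.Nodes.WittRGD.nn Fr p0 i ∈ DS := by
      have := D.tor (R.nsys.rel i i)
      rwa [(CoxeterMatrix.B n).diagonal, pow_one] at this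
    have h3 := mul_mem (mul_mem (inv_mem h2) h1) h2
    have e : (Cfsg.Agent.Nodes.WittRGD.nn Fr p0 i * Cfsg.Agent.Nodes.WittRGD.nn Fr p0 i)⁻¹ *
        (Cfsg.Agent.Nodes.WittRGD.nn Fr p0 i *
          (Cfsg.Agent.Nodes.WittRGD.nn Fr p0 i * g * (Cfsg.Agent.Nodes.WittRGD.nn Fr p0 i)⁻¹) *
          (Cfsg.Agent.Nodes.WittRGD.nn Fr p0 i)⁻¹) *
        (Cfsg.Agent.Nodes.WittRGD.nn Fr p0 i * Cfsg.Agent.Nodes.WittRGD.nn Fr p0 i) = g := by group
    rwa [e] at h3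
  · obtain ⟨a, b, hab, e⟩ := exists_of_isRoot cs hx
    rw [rg_eq Fr hab e]
    exact D.cj_PG hab ⟨t, ht⟩

include D in
/-- **the root group datum of a group `G` containing `G0` and `DS`** -/
theorem rgdG (hA : Cfsg.Agent.Nodes.WittAll.AmbT Fr p G0) (hp0 : p0.c ≠ 0) {W : Type*} [Group W]
    (cs : CoxeterSystem (CoxeterMatrix.B n) W) {G : Subgroup (V ≃ₗ[F] V)} (hG : G0 ≤ G) :
    RGD cs (isCartan n) p (DS.subgroupOf G)
      (fun i => ⟨Cfsg.Agent.Nodes.WittRGD.nn Fr p0 i, hG (Cfsg.Agent.Nodes.WittAll.nn_mem hA p0 i)⟩)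
      (fun x => (Cfsg.Agent.Nodes.WittRoot.rg Fr x).subgroupOf G) :=
  rgd_restrict (D.rgd hA hp0 cs) G (fun x _ => (hA.rg_le x).trans hG) _

end DG

end Cfsg.Agent.H553.AF
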