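import Cfsg.Agent.H553.AF.WData
import Cfsg.Agent.TitsThree.KInstSp
import Cfsg.Agent.Nodes.WittU
import Cfsg.Agent.H546.FaPSp

/-!
# The adjoint frame of `PSp m F` (S4884, own characteristic; helper553)

`wdat` : the diagonal symplectic similitudes; `D : H928.Ad.Data` for `PSp m F`; the anti-automorphism.
-/

set_option autoImplicit false
set_option linter.unusedSectionVars false

namespace Cfsg.Agent.H553.AF.PSp

open Cfsg Cfsg.Agent.ClassicalGeometry.SympBasic
open Cfsg.Agent.ChevalleyStructure.CoxeterGeom Cfsg.Agent.Tits.Roots Cfsg.Agent.Nodes.TypeC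
open Cfsg.Agent.Nodes.Comb Cfsg.Agent.Nodes.Reps Cfsg.Agent.Nodes.WittRoot Cfsg.Agent.Nodes.BNOf
open Cfsg.Agent.Nodes.WittRGD Cfsg.Agent.Nodes.RGDLib Cfsg.Agent.Nodes.Bruhat
open Cfsg.Agent.TitsThree Cfsg.Agent.TitsThree.Siegel Cfsg.Agent.TitsThree.SpIdent
open Cfsg.Agent.TitsThree.WittFrame
  Cfsg.Agent.TitsThree.WittWeyl Cfsg.Agent.TitsThree.FrameCN

universe v

variable {F : Type v} [Field F] {m : ℕ}

/-- coordinates of the long root groups -/
def yc (m : ℕ) (F : Type v) [Field F] : YC (frame m F) F where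
  y := adm
  inj _ _ h := congrArg Frame.Adm.c h
  surj q := ⟨q.c, (eq_adm q).symm⟩
  add := adm_add

/-- coordinates determine linear maps -/
theorem ext_b {g g' : (Fin m ⊕ Fin m → F) ≃ₗ[F] (Fin m ⊕ Fin m → F)}
    (h : ∀ x, g ((frame m F).b x) = g' ((frame m F).b x)) : g = g' := by
  apply LinearEquiv.toLinearMap_injective
  refine LinearMap.ext_on (span_ef (m := m) (F := F)) ?_
  rintro _ (⟨i, rfl⟩ | ⟨i, rfl⟩)
  · exact h (i, true)
  · exact h (i, false)

/-- the diagonal maps: `e i ↦ d i e i`, `f i ↦ c i f i` -/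
def dg (d c : Fin m → Fˣ) : (Fin m ⊕ Fin m → F) ≃ₗ[F] (Fin m ⊕ Fin m → F) :=
  LinearEquiv.piCongrRight fun j => LinearEquiv.smulOfUnit (Sum.elim c d j)

theorem dg_inl (d c : Fin m → Fˣ) (v : Fin m ⊕ Fin m → F) (i : Fin m) : dg d c v (Sum.inl i) = c i * v (Sum.inl i) := rfl

theorem dg_inr (d c : Fin m → Fˣ) (v : Fin m ⊕ Fin m → F) (i : Fin m) : dg d c v (Sum.inr i) = d i * v (Sum.inr i) := rfl

theorem dg_e (d c : Fin m → Fˣ) (i : Fin m) : dg d c (e m F i) = (d i : F) • e m F i := by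
  funext j
  rcases j with j | j
  · rw [dg_inl]
    simp [e]
  · rw [dg_inr]
    by_cases h : j = i
    · subst h; simp [e]
    · simp [e, h]

theorem dg_f (d c : Fin m → Fˣ) (i : Fin m) : dg d c (f m F i) = (c i : F) • f m F i := by
  funext j
  rcases j with j | j
  · rw [dg_inl]
    by_cases h : j = i
    · subst h; simp [f]
    · simp [f, h]
  · rw [dg_inr]
    simp [f]

theorem dg_sim (d c : Fin m → Fˣ) (l : Fˣ) (h : ∀ i, d i * c i = l) : IsSim (form m F) (l : F) (dg d c) := by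
  refine ⟨l.ne_zero, rfl, fun v w => ?_⟩
  have h' : ∀ i, (d i : F) * (c i : F) = l := fun i => by rw [← h i]; rfl
  rw [form_h, form_h, sympForm_eq_sum, sympForm_eq_sum, Finset.mul_sum]
  refine Finset.sum_congr rfl fun i _ => ?_
  rw [dg_inl, dg_inl, dg_inr, dg_inr, ← h' i]
  ring

/-- the exchange `e i ↦ f i`, `f i ↦ - e i` -/
def ww (m : ℕ) (F : Type v) [Field F] : (Fin m ⊕ Fin m → F) ≃ₗ[F] (Fin m ⊕ Fin m → F) where
  toFun v := Sum.elim (fun i => v (Sum.inr i)) (fun i => -v (Sum.inl i))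
  map_add' v w := by
    funext j
    rcases j with j | j
    · rfl
    · simp only [Sum.elim_inr, Pi.add_apply]; ring
  map_smul' c v := by
    funext j
    rcases j with j | j
    · rfl
    · simp only [Sum.elim_inr, Pi.smul_apply, smul_eq_mul, RingHom.id_apply]; ring
  invFun v := Sum.elim (fun i => -v (Sum.inr i)) (fun i => v (Sum.inl i))
  left_inv v := by
    funext j
    rcases j with j | j
    · simp
    · simp
  right_inv v := by
    funext j
    rcases j with j | j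
    · simp
    · simp

theorem ww_inl (v : Fin m ⊕ Fin m → F) (i : Fin m) : ww m F v (Sum.inl i) = v (Sum.inr i) := rfl
theorem ww_inr (v : Fin m ⊕ Fin m → F) (i : Fin m) : ww m F v (Sum.inr i) = -v (Sum.inl i) := rfl

theorem ww_e (i : Fin m) : ww m F (e m F i) = f m F i := by
  funext j
  rcases j with j | j
  · rw [ww_inl]
    simp [e, f, Pi.single_apply]
  · rw [ww_inr]
    simp [e, f]

theorem ww_f (i : Fin m) : ww m F (f m F i) = -e m F i := by
  funext j
  rcases j with j | j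
  · rw [ww_inl]
    simp [e, f]
  · rw [ww_inr]
    simp [e, f, Pi.single_apply]

theorem ww_iso : (form m F).IsIso (ww m F) := by
  intro v w
  rw [form_h, form_h, sympForm_eq_sum, sympForm_eq_sum]
  refine Finset.sum_congr rfl fun i _ => ?_
  rw [ww_inl, ww_inl, ww_inr, ww_inr]
  ring

theorem ww_sq (v : Fin m ⊕ Fin m → F) : ww m F (ww m F v) = (-1 : F) • v := by
  funext j
  rcases j with j | j
  · rw [ww_inl, ww_inr]; simp
  · rw [ww_inr, ww_inl]; simp

/-! ### the torus -/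

/-- the diagonal similitudes -/
def DS (m : ℕ) (F : Type v) [Field F] : Subgroup ((Fin m ⊕ Fin m → F) ≃ₗ[F] (Fin m ⊕ Fin m → F)) where
  carrier := {g | Mono (frame m F) g id ∧ ∃ l, IsSim (form m F) l g}
  one_mem' := ⟨Mono.one, 1, IsSim.of_iso fun _ _ => rfl⟩
  mul_mem' := by
    rintro g g' ⟨h1, l, h2⟩ ⟨h1', l', h2'⟩
    exact ⟨h1.mul h1', _, h2.mul h2'⟩
  inv_mem' := by
    rintro g ⟨h1, l, h2⟩
    exact ⟨h1.inv fun _ => rfl, _, h2.inv⟩

theorem dg_mem (d c : Fin m → Fˣ) (l : Fˣ) (h : ∀ i, d i * c i = l) : dg d c ∈ DS m F := by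
  refine ⟨?_, _, dg_sim d c l h⟩
  rintro ⟨i, b⟩
  cases b
  · exact ⟨c i, (c i).ne_zero, dg_f d c i⟩
  · exact ⟨d i, (d i).ne_zero, dg_e d c i⟩

theorem coef_ne {x x' : Fin m × Bool} {g : (Fin m ⊕ Fin m → F) ≃ₗ[F] (Fin m ⊕ Fin m → F)} {l : F}
    (h : g ((frame m F).b x) = l • (frame m F).b x') : l ≠ 0 := by
  rintro rfl
  rw [zero_smul] at h
  exact b_ne (frame m F) x (g.map_eq_zero_iff.1 h)

theorem adm_w (q : (frame m F).Adm) : q.w = 0 := q.ok

/-- conjugation of the long root elements by a similitude -/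
theorem conj_adm {k : F} {g : (Fin m ⊕ Fin m → F) ≃ₗ[F] (Fin m ⊕ Fin m → F)} (hg : IsSim (form m F) k g)
    {x x' : Fin m × Bool} {l : F} (hx : g ((frame m F).b x) = l • (frame m F).b x') (q : (frame m F).Adm) :
    g * (frame m F).Z x q * g⁻¹ = (frame m F).Z x' (adm (k⁻¹ * (l * l) * q.c)) :=
  conj_Z_sim (frame m F) hg hx q _ (by rw [adm_w, map_zero, smul_zero]; rfl) rfl

theorem ylin {k : F} {g : (Fin m ⊕ Fin m → F) ≃ₗ[F] (Fin m ⊕ Fin m → F)} (hg : IsSim (form m F) k g) :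
    YLin (yc m F) g := by
  intro x x' l hl
  have hl0 := coef_ne hl
  exact ⟨k⁻¹ * (l * l), mul_ne_zero (inv_ne_zero hg.ne) (mul_ne_zero hl0 hl0), fun a => conj_adm hg hl _⟩

theorem sim_norm {k : F} {g : (Fin m ⊕ Fin m → F) ≃ₗ[F] (Fin m ⊕ Fin m → F)} (hg : IsSim (form m F) k g) :
    g ∈ Subgroup.normalizer ((isos (form m F) : Subgroup _) : Set ((Fin m ⊕ Fin m → F) ≃ₗ[F] (Fin m ⊕ Fin m → F))) := by
  rw [Subgroup.mem_normalizer_iff]
  have key : ∀ (k : F) (g h : (Fin m ⊕ Fin m → F) ≃ₗ[F] (Fin m ⊕ Fin m → F)), IsSim (form m F) k g →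
      h ∈ isos (form m F) → g * h * g⁻¹ ∈ isos (form m F) := by
    intro k g h hg hh
    have h1 := (hg.mul (IsSim.of_iso hh)).mul hg.inv
    rw [mul_one, mul_inv_cancel₀ hg.ne] at h1
    exact h1.iso
  intro h
  refine ⟨key k g h hg, fun hh => ?_⟩
  have h1 := key _ _ _ hg.inv hh
  have e : g⁻¹ * (g * h * g⁻¹) * g⁻¹⁻¹ = h := by group
  rwa [e] at h1

variable [Finite F] {p : ℕ} [hp : Fact p.Prime] [CharP F p]

theorem cop : (Nat.card (DS m F)).Coprime p := by
  have : Finite ((Fin m ⊕ Fin m → F) ≃ₗ[F] (Fin m ⊕ Fin m → F)) :=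
    Finite.of_injective (fun g : (Fin m ⊕ Fin m → F) ≃ₗ[F] (Fin m ⊕ Fin m → F) => (g : _ → _))
      DFunLike.coe_injective
  rw [Nat.coprime_comm, hp.out.coprime_iff_not_dvd]
  intro hd
  obtain ⟨g, hg⟩ := exists_prime_orderOf_dvd_card' p hd
  have h1 : g ^ p = 1 := by rw [← hg]; exact pow_orderOf_eq_one g
  have h2 : g.1 = 1 := by
    apply ext_b
    intro x
    obtain ⟨l, hl0, hl⟩ := g.2.1 x
    have h3 : ∀ k : ℕ, (g.1 ^ k) ((frame m F).b x) = l ^ k • (frame m F).b x := by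
      intro k
      induction k with
      | zero => rw [pow_zero, pow_zero, one_smul]; rfl
      | succ k ih =>
        rw [pow_succ', pow_succ]
        change g.1 ((g.1 ^ k) ((frame m F).b x)) = _
        rw [ih, map_smul, hl, smul_smul]
        rfl
    have h4 := h3 p
    have h5 : g.1 ^ p = 1 := congrArg Subtype.val h1
    rw [h5] at h4
    have h6 : (1 : F) • (frame m F).b x = l ^ p • (frame m F).b x := by rw [one_smul]; exact h4
    have h7 : 1 = l ^ p := smul_left_injective F (b_ne (frame m F) x) h6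
    have h8 : l = 1 := by
      have : (l - 1) ^ p = 0 := by rw [sub_pow_char, ← h7, one_pow, sub_self]
      exact sub_eq_zero.1 (eq_zero_of_pow_eq_zero this)
    rw [hl, h8, one_smul]
    rfl
  have h3 : g = 1 := Subtype.ext h2
  rw [h3, orderOf_one] at hg
  exact hp.out.one_lt.ne hg

theorem dgp : DG (frame m F) (isos (form m F)) (adm 1) p (DS m F) where
  sim g hg := hg.2
  mono g hg := hg.1
  ok g _ l _ v c h := by
    rw [frame_ok] at h ⊢
    rw [h, map_zero]
  tor g hg := ⟨hg.2, 1, IsSim.of_iso hg.1⟩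
  comm g hg g' hg' := by
    apply ext_b
    intro x
    obtain ⟨l, -, hl⟩ := hg.1 x
    obtain ⟨l', -, hl'⟩ := hg'.1 x
    change g (g' _) = g' (g _)
    rw [hl, hl']
    change g (l' • (frame m F).b x) = g' (l • (frame m F).b x)
    rw [map_smul, map_smul, hl, hl', smul_smul, smul_smul, mul_comm]
  nn i g hg := by
    have h1 := mono_nn (Fr := frame m F) (p0 := adm 1) one_ne_zero i
    refine ⟨((h1.mul hg.1).mul (h1.inv (sg_sg i))).congr fun x => sg_sg i x, ?_⟩
    obtain ⟨l, hl⟩ := hg.2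
    have h2 : nn (frame m F) (adm 1) i ∈ isos (form m F) :=
      Cfsg.Agent.Nodes.WittRGD.nn_mem Cfsg.Agent.Nodes.WittU.amb_Sp _ _
    exact ⟨_, ((IsSim.of_iso h2).mul hl).mul (IsSim.of_iso h2).inv⟩
  cop := cop

omit [Finite F] hp [CharP F p] in
/-- a map fixing all lines commutes with every linear map -/
theorem comm_of_lines {V : Type*} [AddCommGroup V] [Module F V] {g : V ≃ₗ[F] V} (hs : ∀ v, ∃ a : F, g v = a • v)
    (k : V ≃ₗ[F] V) (v : V) : k (g v) = g (k v) := by
  have hk : ∀ v, ∃ c : F, k v ≠ 0 → g v = c • v ∧ g (k v) = c • k v := by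
    intro v
    by_cases hv : ∃ m : F, k v = m • v
    · obtain ⟨m, hm⟩ := hv
      obtain ⟨a, ha⟩ := hs v
      exact ⟨a, fun _ => ⟨ha, by rw [hm, map_smul, ha, smul_comm]⟩⟩
    · obtain ⟨a, ha⟩ := hs v
      obtain ⟨c, hc⟩ := hs (k v)
      obtain ⟨d, hd⟩ := hs (v + k v)
      rw [map_add, ha, hc, smul_add] at hd
      have h1 : (c - d) • k v = (d - a) • v := by
        rw [sub_smul, sub_smul]
        have h2 := hd
        rw [← sub_eq_zero] at h2 ⊢
        rw [← h2]; abel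
      have hcd : c = d := by
        by_contra hne
        apply hv
        refine ⟨(c - d)⁻¹ * (d - a), ?_⟩
        rw [mul_smul, ← h1, smul_smul, inv_mul_cancel₀ (sub_ne_zero.2 hne), _root_.one_smul]
      have hv0 : v ≠ 0 := by
        rintro rfl
        exact hv ⟨0, by rw [map_zero, zero_smul]⟩
      have had : a = d := by
        subst hcd
        rw [sub_self, zero_smul] at h1
        rcases smul_eq_zero.1 h1.symm with h3 | h3
        · exact (sub_eq_zero.1 h3).symm
        · exact absurd h3 hv0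
      exact ⟨c, fun _ => ⟨by rw [ha, had, hcd], hc⟩⟩
  obtain ⟨c, hc⟩ := hk v
  by_cases h0 : k v = 0
  · have hv : v = 0 := k.map_eq_zero_iff.1 h0
    rw [hv]; simp
  · obtain ⟨h1, h2⟩ := hc h0
    rw [h1, h2, map_smul]

omit [Finite F] hp [CharP F p] in
theorem fullM : Full (KInstSp.model m F) where
  surj := toPSp_surjective
  ker := by
    have key : ∀ k : ↥(isos (form m F)), (∀ v, ∃ a : F, k.1 v = a • v) → toPSp k = 1 := by
      intro k hk
      have h1 : toSp k ∈ Subgroup.center (Matrix.symplecticGroup (Fin m) F) := by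
        rw [Subgroup.mem_center_iff]
        intro A
        obtain ⟨a, rfl⟩ := toSp_surjective A
        have e : a * k = k * a := by
          apply Subtype.ext
          ext1 v
          exact comm_of_lines hk a.1 v
        rw [← map_mul, ← map_mul, e]
      exact (QuotientGroup.eq_one_iff _).2 h1
    exact key

/-- **the data** -/
theorem wdat : WDat (KInstSp.model m F) p (adm 1) (DS m F) (yc m F) (ww m F) where
  full := fullM
  amb := Cfsg.Agent.Nodes.WittAll.AmbT.of_amb Cfsg.Agent.Nodes.WittU.amb_Sp p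
  hp0 := one_ne_zero
  dg := dgp
  norm g hg := sim_norm hg.2.choose_spec
  lin g hg := ylin hg.2.choose_spec
  semi i := (ylin (IsSim.of_iso (Cfsg.Agent.Nodes.WittRGD.nn_mem Cfsg.Agent.Nodes.WittU.amb_Sp _ _))).semi
  fulA d hd := by
    have h1 : ∀ i : Fin m, (Units.mk0 (d i) (hd i)) * (Units.mk0 (d i) (hd i))⁻¹ = 1 := fun i => mul_inv_cancel _
    have h2 := dg_sim (fun i => Units.mk0 (d i) (hd i)) (fun i => (Units.mk0 (d i) (hd i))⁻¹) 1 h1
    refine ⟨dg (fun i => Units.mk0 (d i) (hd i)) (fun i => (Units.mk0 (d i) (hd i))⁻¹), dg_mem _ _ 1 h1, h2,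
      fun k => dg_e _ _ k, fun k q hk => ?_⟩
    have h3 := dg_e (fun i => Units.mk0 (d i) (hd i)) (fun i => (Units.mk0 (d i) (hd i))⁻¹) k
    rw [conj_adm h2 (x := (k, true)) (x' := (k, true)) h3 q]
    rw [Units.val_mk0, hk, eq_adm q]
    congr 2
    simp
    rfl
  fulB c hc := by
    have h1 : ∀ i : Fin m, (1 : Fˣ) * (Units.mk0 c hc)⁻¹ = (Units.mk0 c hc)⁻¹ := fun i => one_mul _
    have h2 := dg_sim (fun _ : Fin m => (1 : Fˣ)) (fun _ => (Units.mk0 c hc)⁻¹) _ h1
    refine ⟨dg (fun _ => 1) (fun _ => (Units.mk0 c hc)⁻¹), dg_mem _ _ _ h1, fun k => ?_, fun k a => ?_⟩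
    · refine (dg_e _ _ k).trans ?_
      rw [Units.val_one, one_smul]
      rfl
    · have h3 := dg_e (fun _ : Fin m => (1 : Fˣ)) (fun _ => (Units.mk0 c hc)⁻¹) k
      refine (conj_adm h2 (x := (k, true)) (x' := (k, true)) h3 _).trans ?_
      refine congrArg _ (congrArg adm ?_)
      simp
      exact Or.inl rfl
  wn := Subgroup.le_normalizer ww_iso
  wi := ww_iso
  wm := by
    rintro ⟨i, b⟩
    cases b
    · exact ⟨-1, by simp, (ww_f i).trans (by rw [neg_smul, one_smul]; rfl)⟩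
    · exact ⟨1, one_ne_zero, (ww_e i).trans (by rw [one_smul]; rfl)⟩
  wy x q := by
    obtain ⟨l, -, hl⟩ : ∃ l : F, l ≠ 0 ∧ ww m F ((frame m F).b x) = l • (frame m F).b (neg x) := by
      obtain ⟨i, b⟩ := x
      cases b
      · exact ⟨-1, by simp, (ww_f i).trans (by rw [neg_smul, one_smul]; rfl)⟩
      · exact ⟨1, one_ne_zero, (ww_e i).trans (by rw [one_smul]; rfl)⟩
    exact ⟨_, conj_adm (IsSim.of_iso ww_iso) hl q⟩
  w2 := ⟨-1, by simp, ww_sq⟩
  wg g hg := by
    obtain ⟨l, hl⟩ := hg.2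
    refine ⟨l, hl.ne, ?_⟩
    have key : ww m F * g * (ww m F)⁻¹ = LinearEquiv.smulOfUnit (Units.mk0 l hl.ne) * g⁻¹ := by
      apply ext_b
      intro x
      obtain ⟨m', hm0, hm'⟩ : ∃ l : F, l ≠ 0 ∧ ww m F ((frame m F).b (neg x)) = l • (frame m F).b x := by
        obtain ⟨i, b⟩ := x
        cases b
        · exact ⟨1, one_ne_zero, (ww_e i).trans (by rw [one_smul]; rfl)⟩
        · exact ⟨-1, by simp, (ww_f i).trans (by rw [neg_smul, one_smul]; rfl)⟩
      obtain ⟨a, ha0, ha⟩ := hg.1 x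
      obtain ⟨a', ha0', ha'⟩ := hg.1 (neg x)
      have h1 : a * a' = l := by
        have h2 := hl.sim ((frame m F).b x) ((frame m F).b (neg x))
        rw [ha, ha', HForm.smul_left, HForm.smul_right, ← mul_assoc] at h2
        refine mul_right_cancel₀ (b := (form m F).h ((frame m F).b x) ((frame m F).b (neg x))) ?_ h2
        have := (frame m F).hb_neg_self (neg x)
        rw [neg_neg] at this
        rw [this]
        exact (frame m F).η_ne _
      have h2 : (ww m F)⁻¹ ((frame m F).b x) = m'⁻¹ • (frame m F).b (neg x) := by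
        have h3 : (ww m F)⁻¹ (ww m F ((frame m F).b (neg x))) = (frame m F).b (neg x) :=
          (ww m F).symm_apply_apply _
        rw [← h3, hm', map_smul, smul_smul, inv_mul_cancel₀ hm0, one_smul]
      have h3 : g⁻¹ ((frame m F).b x) = a⁻¹ • (frame m F).b x := by
        have h4 : g⁻¹ (g ((frame m F).b x)) = (frame m F).b x := g.symm_apply_apply _
        conv_rhs => rw [← h4, ha]
        rw [map_smul, smul_smul, inv_mul_cancel₀ ha0, one_smul]
        rfl
      change ww m F (g ((ww m F)⁻¹ ((frame m F).b x))) = l • g⁻¹ ((frame m F).b x)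
      rw [h2, h3, map_smul, ha', map_smul, map_smul]
      change m'⁻¹ • a' • ww m F ((frame m F).b (neg x)) = _
      rw [hm', smul_smul, smul_smul, smul_smul, ← h1]
      congr 1
      field_simp
    intro v
    rw [key]
    rfl

/-- **The adjoint frame of `PSp m F`.** -/
theorem data [NeZero m] {W : Type*} [Group W] (cs : CoxeterSystem (CoxeterMatrix.B m) W) :
    Cfsg.Agent.H928.Ad.Data cs (isCartan m) p (Cfsg.Agent.Nodes.WittModel.T (KInstSp.model m F)) (wdat (p := p)).nk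
      (Cfsg.Agent.Nodes.WittModel.X (KInstSp.model m F)) (xc (KInstSp.model m F) (yc m F)) (wdat (p := p)).DD :=
  (wdat (p := p)).data cs (Cfsg.Agent.H546.FaPSp.center (NeZero.pos m))

/-- **the anti-automorphism** -/
theorem anti [NeZero m] {W : Type*} [Group W] (cs : CoxeterSystem (CoxeterMatrix.B m) W) :
    ∃ φ : ↥(Cfsg.Agent.H928.Ad.Gad (wdat (m := m) (F := F) (p := p)).DD) → ↥(Cfsg.Agent.H928.Ad.Gad (wdat (m := m) (F := F) (p := p)).DD),
      (∀ g, (φ g : MulAut (PSp m F)) = (wdat (p := p)).om * (g : MulAut (PSp m F))⁻¹ * (wdat (p := p)).om⁻¹) ∧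
      Cfsg.Agent.H92.GG.Anti cs (isCartan m) (Cfsg.Agent.H928.Ad.Tad (wdat (p := p)).DD)
        (Cfsg.Agent.H928.Ad.Xad (Cfsg.Agent.Nodes.WittModel.X (KInstSp.model m F)) (wdat (p := p)).DD) φ :=
  (wdat (p := p)).anti cs (Cfsg.Agent.H546.FaPSp.center (NeZero.pos m))

end Cfsg.Agent.H553.AF.PSp
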