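import Cfsg.Agent.H553.AF.Sim

/-!
# The action of a normaliser on a quotient by scalars (S4829, frames of type D; helper553)

* `QM I φ` : `φ : I ↠ K` whose kernel consists of all scalars of `I`;
* `qact : N(I) →* MulAut K`; `qact_φ`, `qact_of_mem`, `qact_smul`.
-/

set_option autoImplicit false
set_option linter.unusedSectionVars false

namespace Cfsg.Agent.H553.AF

variable {F : Type*} [Field F] {V : Type*} [AddCommGroup V] [Module F V] {K : Type*} [Group K]
  {I : Subgroup (V ≃ₗ[F] V)} {φ : ↥I →* K}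

/-- a quotient of a group of linear maps by its scalars -/
structure QM (I : Subgroup (V ≃ₗ[F] V)) (φ : ↥I →* K) : Prop where
  surj : Function.Surjective φ
  sc : ∀ k : ↥I, φ k = 1 → ∀ v, ∃ a : F, k.1 v = a • v
  ker : ∀ k : ↥I, (∀ v, ∃ a : F, k.1 v = a • v) → φ k = 1

theorem QM.conj_ker (h : QM I φ) (g : V ≃ₗ[F] V) (k : ↥I) (hk : φ k = 1) (hm : g * k.1 * g⁻¹ ∈ I) :
    φ ⟨g * k.1 * g⁻¹, hm⟩ = 1 := by
  refine h.ker _ fun v => ?_
  obtain ⟨a, ha⟩ := h.sc k hk (g⁻¹ v)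
  refine ⟨a, ?_⟩
  change g (k.1 (g⁻¹ v)) = a • v
  rw [ha, map_smul]
  congr 1
  exact g.apply_symm_apply v

/-- conjugation on `I` -/
def qI (g : ↥(Subgroup.normalizer (I : Set (V ≃ₗ[F] V)))) : MulAut ↥I := I.normalizerMonoidHom g

theorem qI_coe (g : ↥(Subgroup.normalizer (I : Set (V ≃ₗ[F] V)))) (k : ↥I) :
    ((qI g k : ↥I) : V ≃ₗ[F] V) = g.1 * k.1 * g.1⁻¹ := rfl

theorem QM.congr (h : QM I φ) (g : ↥(Subgroup.normalizer (I : Set (V ≃ₗ[F] V)))) {k k' : ↥I}
    (e : φ k = φ k') : φ (qI g k) = φ (qI g k') := by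
  have h1 : φ (k⁻¹ * k') = 1 := by rw [map_mul, map_inv, e, inv_mul_cancel]
  have h2 := h.conj_ker g.1 (k⁻¹ * k') h1 (qI g (k⁻¹ * k')).2
  have h3 : φ (qI g (k⁻¹ * k')) = 1 := h2
  rw [map_mul, map_inv, map_mul, map_inv, inv_mul_eq_one] at h3
  exact h3

theorem qI_inv (g : ↥(Subgroup.normalizer (I : Set (V ≃ₗ[F] V)))) (k : ↥I) : qI g⁻¹ (qI g k) = k := by
  apply Subtype.ext
  rw [qI_coe, qI_coe]
  have : (g⁻¹ : ↥(Subgroup.normalizer (I : Set (V ≃ₗ[F] V)))).1 = g.1⁻¹ := rfl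
  rw [this]; group

theorem qI_inv' (g : ↥(Subgroup.normalizer (I : Set (V ≃ₗ[F] V)))) (k : ↥I) : qI g (qI g⁻¹ k) = k := by
  apply Subtype.ext
  rw [qI_coe, qI_coe]
  have : (g⁻¹ : ↥(Subgroup.normalizer (I : Set (V ≃ₗ[F] V)))).1 = g.1⁻¹ := rfl
  rw [this]; group

/-- the automorphism of `K` induced by an element normalising `I` -/
noncomputable def qactE (h : QM I φ) (g : ↥(Subgroup.normalizer (I : Set (V ≃ₗ[F] V)))) : MulAut K where
  toFun y := φ (qI g (Function.surjInv h.surj y))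
  invFun y := φ (qI g⁻¹ (Function.surjInv h.surj y))
  left_inv y := by
    have e : φ (Function.surjInv h.surj (φ (qI g (Function.surjInv h.surj y)))) =
        φ (qI g (Function.surjInv h.surj y)) := Function.surjInv_eq h.surj _
    refine (h.congr g⁻¹ e).trans ?_
    rw [qI_inv]
    exact Function.surjInv_eq h.surj y
  right_inv y := by
    have e : φ (Function.surjInv h.surj (φ (qI g⁻¹ (Function.surjInv h.surj y)))) =
        φ (qI g⁻¹ (Function.surjInv h.surj y)) := Function.surjInv_eq h.surj _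
    refine (h.congr g e).trans ?_
    rw [qI_inv']
    exact Function.surjInv_eq h.surj y
  map_mul' y y' := by
    rw [← map_mul, ← map_mul]
    exact h.congr g (by
      rw [map_mul, Function.surjInv_eq h.surj, Function.surjInv_eq h.surj, Function.surjInv_eq h.surj])

theorem qactE_φ (h : QM I φ) (g : ↥(Subgroup.normalizer (I : Set (V ≃ₗ[F] V)))) (k : ↥I) :
    qactE h g (φ k) = φ (qI g k) := h.congr g (Function.surjInv_eq h.surj _)

/-- **the action of the normaliser of `I` on `K`** -/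
noncomputable def qact (h : QM I φ) : ↥(Subgroup.normalizer (I : Set (V ≃ₗ[F] V))) →* MulAut K where
  toFun g := qactE h g
  map_one' := by
    ext y
    obtain ⟨k, rfl⟩ := h.surj y
    rw [qactE_φ]
    have e : qI (1 : ↥(Subgroup.normalizer (I : Set (V ≃ₗ[F] V)))) k = k := by
      apply Subtype.ext
      rw [qI_coe]
      simp
    rw [e]
    rfl
  map_mul' g g' := by
    ext y
    obtain ⟨k, rfl⟩ := h.surj y
    rw [MulAut.mul_apply, qactE_φ, qactE_φ, qactE_φ]
    have e : qI (g * g') k = qI g (qI g' k) := by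
      apply Subtype.ext
      rw [qI_coe, qI_coe, qI_coe]
      have : (g * g').1 = g.1 * g'.1 := rfl
      rw [this]; group
    rw [e]

theorem qact_φ (h : QM I φ) (g : ↥(Subgroup.normalizer (I : Set (V ≃ₗ[F] V)))) (k : ↥I) :
    qact h g (φ k) = φ (qI g k) := qactE_φ h g k

theorem qact_of_mem (h : QM I φ) (k : ↥I) : qact h ⟨k.1, Subgroup.le_normalizer k.2⟩ = MulAut.conj (φ k) := by
  ext y
  obtain ⟨k', rfl⟩ := h.surj y
  rw [qact_φ, MulAut.conj_apply, ← map_inv, ← map_mul, ← map_mul]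
  rfl

/-- `qact` only depends on the element up to scalars -/
theorem qact_smul (h : QM I φ) {g g' : ↥(Subgroup.normalizer (I : Set (V ≃ₗ[F] V)))} {c : F}
    (e : ∀ v, g.1 v = c • g'.1 v) : qact h g = qact h g' := by
  ext y
  obtain ⟨k, rfl⟩ := h.surj y
  rw [qact_φ, qact_φ]
  congr 1
  apply Subtype.ext
  rw [qI_coe, qI_coe, mul_inv_eq_iff_eq_mul]
  ext v
  have e1 : ∀ v, g'.1⁻¹ (g'.1 v) = v := fun v => g'.1.symm_apply_apply v
  change g.1 (k.1 v) = g'.1 (k.1 (g'.1⁻¹ (g.1 v)))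
  rw [e, e v, map_smul, e1, map_smul, map_smul]

end Cfsg.Agent.H553.AF
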