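import Cfsg.Agent.Nodes.WittAll

/-!
# Similitudes of a Witt frame acting on a model (S4884, frames of the adjoint classical groups; helper553)

* `IsSim H l g` : `h(g v, g w) = l h(v, w)`; `conj_sie_sim`, `conj_X_sim`, `conj_Z_sim`;
* `act M hs hk : N(M.I) →* MulAut K` for a model `M.φ : M.I ↠ K` whose kernel consists of all scalars of `M.I`;
* `act_of_mem` : on `M.I` it is `conj ∘ φ`; `act_smul` : it kills the scalars;
* `map_X_conj` : the root groups of `MulAut K` under `act g`, `g` a monomial similitude.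
-/

set_option autoImplicit false
set_option linter.unusedSectionVars false

namespace Cfsg.Agent.H553.AF

open Cfsg.Agent.ChevalleyStructure.CoxeterGeom Cfsg.Agent.Tits.Roots Cfsg.Agent.Nodes.TypeC
open Cfsg.Agent.Nodes.Comb Cfsg.Agent.Nodes.Reps Cfsg.Agent.Nodes.WittRoot Cfsg.Agent.Nodes.BNOf
open Cfsg.Agent.Nodes.WittRGD
open Cfsg.Agent.TitsThree Cfsg.Agent.TitsThree.Siegel Cfsg.Agent.TitsThree.WittFrame
  Cfsg.Agent.TitsThree.WittWeyl Cfsg.Agent.TitsThree.FrameCN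

variable {F : Type*} [Field F] {V : Type*} [AddCommGroup V] [Module F V] {H : HForm F V}

/-- similitudes -/
structure IsSim (H : HForm F V) (l : F) (g : V ≃ₗ[F] V) : Prop where
  ne : l ≠ 0
  fix : H.σ l = l
  sim : ∀ v w, H.h (g v) (g w) = l * H.h v w

theorem IsSim.of_iso {g : V ≃ₗ[F] V} (hg : H.IsIso g) : IsSim H 1 g :=
  ⟨one_ne_zero, map_one _, fun v w => by rw [hg, one_mul]⟩

theorem IsSim.iso {g : V ≃ₗ[F] V} (hg : IsSim H 1 g) : H.IsIso g := fun v w => by rw [hg.sim, one_mul]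

theorem IsSim.mul {l l' : F} {g g' : V ≃ₗ[F] V} (hg : IsSim H l g) (hg' : IsSim H l' g') : IsSim H (l * l') (g * g') :=
  ⟨mul_ne_zero hg.ne hg'.ne, by rw [map_mul, hg.fix, hg'.fix], fun v w => by
    change H.h (g (g' v)) (g (g' w)) = _
    rw [hg.sim, hg'.sim, mul_assoc]⟩

theorem IsSim.inv {l : F} {g : V ≃ₗ[F] V} (hg : IsSim H l g) : IsSim H l⁻¹ g⁻¹ := by
  refine ⟨inv_ne_zero hg.ne, by rw [map_inv₀, hg.fix], fun v w => ?_⟩
  have := hg.sim (g⁻¹ v) (g⁻¹ w)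
  have e : ∀ v, g (g⁻¹ v) = v := fun v => g.apply_symm_apply v
  rw [e, e] at this
  rw [this, inv_mul_cancel_left₀ hg.ne]

theorem conj_sie_sim {l : F} {g : V ≃ₗ[F] V} (hg : IsSim H l g) (u w : V) (c : F) (hu : H.h u u = 0)
    (hw : H.h u w = 0) :
    g * H.sie u w c hu hw * g⁻¹ =
      H.sie (g u) (l⁻¹ • g w) (l⁻¹ * c) (by rw [hg.sim, hu, mul_zero])
        (by rw [H.smul_right, hg.sim, hw, mul_zero, mul_zero]) := by
  rw [mul_inv_eq_iff_eq_mul]
  ext v
  change g (H.sie u w c hu hw v) = H.S (g u) (l⁻¹ • g w) (l⁻¹ * c) (g v)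
  rw [HForm.sie_apply, HForm.S_apply, H.smul_right, hg.sim, hg.sim, map_inv₀, hg.fix]
  simp only [map_add, map_sub, map_smul, smul_smul]
  have e1 : l * H.h v u * l⁻¹ = H.h v u := by
    rw [mul_comm l, mul_assoc, mul_inv_cancel₀ hg.ne, mul_one]
  have e2 : l⁻¹ * (l * H.h v w) = H.h v w := inv_mul_cancel_left₀ hg.ne _
  have e3 : l⁻¹ * c * (l * H.h v u) = c * H.h v u := by
    rw [mul_comm l⁻¹ c, mul_assoc, inv_mul_cancel_left₀ hg.ne]
  rw [e1, e2, e3]

variable {ι : Type*} [DecidableEq ι] (Fr : Frame H ι)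

theorem conj_X_sim {k : F} {g : V ≃ₗ[F] V} (hg : IsSim H k g) {x y x' y' : ι × Bool} (h : x.1 ≠ y.1)
    (h' : x'.1 ≠ y'.1) {l m : F} (hx : g (Fr.b x) = l • Fr.b x') (hy : g (Fr.b y) = m • Fr.b y')
    (t : F) : g * Fr.X x y t * g⁻¹ = Fr.X x' y' (l * H.σ m * k⁻¹ * (Fr.η y)⁻¹ * Fr.η y' * t) := by
  rw [Fr.X_eq h, Fr.X_eq h', conj_sie_sim hg]
  have hs : H.h (l • Fr.b x') ((k⁻¹ * Fr.sc y t) • m • Fr.b y') = 0 := by
    rw [H.smul_left, H.smul_right, H.smul_right, Fr.hb_of_ne h']; simp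
  rw [H.sie_congr _ _ (u' := l • Fr.b x') (w' := (k⁻¹ * Fr.sc y t) • m • Fr.b y') (c' := 0)
    (by rw [H.smul_left, H.smul_right, Fr.hb_self]; simp) hs hx (by rw [map_smul, hy, smul_smul]) (by rw [mul_zero])]
  rw [H.sie_smul (Fr.b x') _ 0 l (Fr.hb_self x')
    (by rw [H.smul_right, H.smul_right, Fr.hb_of_ne h']; simp)]
  apply H.sie_congr _ _ _ _ rfl _ (by ring)
  rw [smul_smul, smul_smul]
  congr 1
  simp only [Frame.sc, map_mul, map_inv₀, H.σσ, Fr.σ_η, inv_inv, hg.fix]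
  have h2 := Fr.η_ne y
  have h3 := Fr.η_ne y'
  have h4 := H.ε_ne
  have h5 := hg.ne
  field_simp

theorem conj_Z_sim {k : F} {g : V ≃ₗ[F] V} (hg : IsSim H k g) {x x' : ι × Bool} {l : F}
    (hx : g (Fr.b x) = l • Fr.b x') (p q : Fr.Adm) (hw : (k⁻¹ * H.σ l) • g p.w = q.w)
    (hc : k⁻¹ * (l * H.σ l) * p.c = q.c) :
    g * Fr.Z x p * g⁻¹ = Fr.Z x' q := by
  by_cases hl : l = 0
  · exfalso
    rw [hl, zero_smul] at hx
    have h1 : Fr.b x = 0 := g.map_eq_zero_iff.1 hx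
    have h2 := Fr.hb_neg_self x
    rw [h1, H.zero_right] at h2
    exact Fr.η_ne x h2.symm
  have hσ : H.σ l ≠ 0 := by simpa using hl
  have hgw : k⁻¹ • g p.w = (H.σ l)⁻¹ • q.w := by
    rw [← hw, smul_smul]
    congr 1
    field_simp
  have hq := Fr.h0 x' _ (Fr.ok_mem q.ok)
  have hq' : H.h (Fr.b x') ((H.σ l)⁻¹ • q.w) = 0 := by rw [H.smul_right, hq, mul_zero]
  rw [Frame.Z, Frame.Z, conj_sie_sim hg]
  rw [H.sie_congr _ _ (u' := l • Fr.b x') (w' := (H.σ l)⁻¹ • q.w) (c' := k⁻¹ * p.c)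
    (by rw [H.smul_left, H.smul_right, Fr.hb_self]; simp)
    (by rw [H.smul_left, hq', mul_zero]) hx hgw rfl]
  rw [H.sie_smul (Fr.b x') _ _ l (Fr.hb_self x') hq']
  apply H.sie_congr _ _ _ _ rfl
  · rw [smul_smul, mul_inv_cancel₀ hσ, one_smul]
  · rw [← hc]; ring

/-! ### The action on the model -/

section Act

variable {n : ℕ} {Fr : Frame H (Fin n)} {K : Type*} [Group K] (M : Model Fr K)

/-- the kernel of the model map consists of all scalars -/
structure Full (M : Model Fr K) : Prop where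
  surj : Function.Surjective M.φ
  ker : ∀ k : M.I, (∀ v, ∃ a : F, k.1 v = a • v) → M.φ k = 1

variable {M} (h : Full M)

theorem Full.conj_ker (h : Full M) (g : V ≃ₗ[F] V) (k : M.I) (hk : M.φ k = 1) (hm : g * k.1 * g⁻¹ ∈ M.I) :
    M.φ ⟨g * k.1 * g⁻¹, hm⟩ = 1 := by
  refine h.ker _ fun v => ?_
  obtain ⟨a, ha⟩ : ∃ a : F, k.1 (g⁻¹ v) = a • g⁻¹ v := M.ker (g⁻¹ v) k hk
  refine ⟨a, ?_⟩
  change g (k.1 (g⁻¹ v)) = a • v
  rw [ha, map_smul]
  congr 1
  exact g.apply_symm_apply v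

/-- conjugation on `M.I` -/
def cI (g : ↥(Subgroup.normalizer (M.I : Set (V ≃ₗ[F] V)))) : MulAut ↥M.I := M.I.normalizerMonoidHom g

theorem cI_coe (g : ↥(Subgroup.normalizer (M.I : Set (V ≃ₗ[F] V)))) (k : ↥M.I) :
    ((cI g k : ↥M.I) : V ≃ₗ[F] V) = g.1 * k.1 * g.1⁻¹ := rfl

theorem Full.congr (h : Full M) (g : ↥(Subgroup.normalizer (M.I : Set (V ≃ₗ[F] V)))) {k k' : ↥M.I}
    (e : M.φ k = M.φ k') : M.φ (cI g k) = M.φ (cI g k') := by
  have h1 : M.φ (k⁻¹ * k') = 1 := by rw [map_mul, map_inv, e, inv_mul_cancel]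
  have h2 := h.conj_ker g.1 (k⁻¹ * k') h1 (cI g (k⁻¹ * k')).2
  have h3 : M.φ (cI g (k⁻¹ * k')) = 1 := h2
  rw [map_mul, map_inv, map_mul, map_inv, inv_mul_eq_one] at h3
  exact h3

/-- the automorphism of `K` induced by an element normalising `M.I` -/
noncomputable def actE (h : Full M) (g : ↥(Subgroup.normalizer (M.I : Set (V ≃ₗ[F] V)))) : MulAut K where
  toFun y := M.φ (cI g (Function.surjInv h.surj y))
  invFun y := M.φ (cI g⁻¹ (Function.surjInv h.surj y))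
  left_inv y := by
    have e : M.φ (Function.surjInv h.surj (M.φ (cI g (Function.surjInv h.surj y)))) =
        M.φ (cI g (Function.surjInv h.surj y)) := Function.surjInv_eq h.surj _
    refine (h.congr g⁻¹ e).trans ?_
    have e2 : cI g⁻¹ (cI g (Function.surjInv h.surj y)) = Function.surjInv h.surj y := by
      apply Subtype.ext
      rw [cI_coe, cI_coe]
      have : (g⁻¹ : ↥(Subgroup.normalizer (M.I : Set (V ≃ₗ[F] V)))).1 = g.1⁻¹ := rfl
      rw [this]; group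
    rw [e2]
    exact Function.surjInv_eq h.surj y
  right_inv y := by
    have e : M.φ (Function.surjInv h.surj (M.φ (cI g⁻¹ (Function.surjInv h.surj y)))) =
        M.φ (cI g⁻¹ (Function.surjInv h.surj y)) := Function.surjInv_eq h.surj _
    refine (h.congr g e).trans ?_
    have e2 : cI g (cI g⁻¹ (Function.surjInv h.surj y)) = Function.surjInv h.surj y := by
      apply Subtype.ext
      rw [cI_coe, cI_coe]
      have : (g⁻¹ : ↥(Subgroup.normalizer (M.I : Set (V ≃ₗ[F] V)))).1 = g.1⁻¹ := rfl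
      rw [this]; group
    rw [e2]
    exact Function.surjInv_eq h.surj y
  map_mul' y y' := by
    rw [← map_mul, ← map_mul]
    exact h.congr g (by
      rw [map_mul, Function.surjInv_eq h.surj, Function.surjInv_eq h.surj, Function.surjInv_eq h.surj])

theorem actE_φ (h : Full M) (g : ↥(Subgroup.normalizer (M.I : Set (V ≃ₗ[F] V)))) (k : ↥M.I) :
    actE h g (M.φ k) = M.φ (cI g k) := h.congr g (Function.surjInv_eq h.surj _)

/-- **the action of the normaliser of `M.I` on `K`** -/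
noncomputable def act (h : Full M) : ↥(Subgroup.normalizer (M.I : Set (V ≃ₗ[F] V))) →* MulAut K where
  toFun g := actE h g
  map_one' := by
    ext y
    obtain ⟨k, rfl⟩ := h.surj y
    rw [actE_φ]
    have e : cI (1 : ↥(Subgroup.normalizer (M.I : Set (V ≃ₗ[F] V)))) k = k := by
      apply Subtype.ext
      rw [cI_coe]
      simp
    rw [e]
    rfl
  map_mul' g g' := by
    ext y
    obtain ⟨k, rfl⟩ := h.surj y
    rw [MulAut.mul_apply, actE_φ, actE_φ, actE_φ]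
    have e : cI (g * g') k = cI g (cI g' k) := by
      apply Subtype.ext
      rw [cI_coe, cI_coe, cI_coe]
      have : (g * g').1 = g.1 * g'.1 := rfl
      rw [this]; group
    rw [e]

theorem act_φ (h : Full M) (g : ↥(Subgroup.normalizer (M.I : Set (V ≃ₗ[F] V)))) (k : ↥M.I) :
    act h g (M.φ k) = M.φ (cI g k) := actE_φ h g k

theorem act_of_mem (h : Full M) (k : ↥M.I) : act h ⟨k.1, Subgroup.le_normalizer k.2⟩ = MulAut.conj (M.φ k) := by
  ext y
  obtain ⟨k', rfl⟩ := h.surj y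
  rw [act_φ, MulAut.conj_apply, ← map_inv, ← map_mul, ← map_mul]
  rfl

/-- `act` only depends on the element up to scalars -/
theorem act_smul (h : Full M) {g g' : ↥(Subgroup.normalizer (M.I : Set (V ≃ₗ[F] V)))} {c : F} (hc : c ≠ 0)
    (e : ∀ v, g.1 v = c • g'.1 v) : act h g = act h g' := by
  have _ := hc
  ext y
  obtain ⟨k, rfl⟩ := h.surj y
  rw [act_φ, act_φ]
  congr 1
  apply Subtype.ext
  rw [cI_coe, cI_coe, mul_inv_eq_iff_eq_mul]
  ext v
  have e1 : ∀ v, g'.1⁻¹ (g'.1 v) = v := fun v => g'.1.symm_apply_apply v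
  change g.1 (k.1 v) = g'.1 (k.1 (g'.1⁻¹ (g.1 v)))
  rw [e, e v, map_smul, e1, map_smul, map_smul]

end Act

end Cfsg.Agent.H553.AF
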