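import Cfsg.Agent.H553.AF.WSys

/-!
# The adjoint frame of a Witt model: `H928.Ad.Data` (S4884; helper553)

`WDat M p p0 DS Y w` : the hypotheses; `WDat.sys`, `WDat.data`, `WDat.anti`.
-/

set_option autoImplicit false
set_option linter.unusedSectionVars false

namespace Cfsg.Agent.H553.AF

open Cfsg.Agent.ChevalleyStructure.CoxeterGeom Cfsg.Agent.Tits.Roots Cfsg.Agent.Nodes.TypeC
open Cfsg.Agent.Nodes.Comb Cfsg.Agent.Nodes.Reps Cfsg.Agent.Nodes.WittRoot Cfsg.Agent.Nodes.BNOf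
open Cfsg.Agent.Nodes.WittRGD Cfsg.Agent.Nodes.RGDLib Cfsg.Agent.Nodes.Bruhat
open Cfsg.Agent.TitsThree Cfsg.Agent.TitsThree.Siegel Cfsg.Agent.TitsThree.WittFrame
  Cfsg.Agent.TitsThree.WittWeyl Cfsg.Agent.TitsThree.FrameCN

universe v

variable {F : Type v} [Field F] {V : Type*} [AddCommGroup V] [Module F V] {H : HForm F V} {n : ℕ}
  {Fr : Frame H (Fin n)} {E : Type v} [Field E] {K : Type*} [Group K] {M : Model Fr K} {Y : YC Fr E}

/-! ### action on the root elements -/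

theorem act_X (hf : Full M) {k : F} {g : ↥(Subgroup.normalizer (M.I : Set (V ≃ₗ[F] V)))} (hg : IsSim H k g.1)
    {x y x' y' : Fin n × Bool} (h : x.1 ≠ y.1) (h' : x'.1 ≠ y'.1) {l m : F} (hx : g.1 (Fr.b x) = l • Fr.b x')
    (hy : g.1 (Fr.b y) = m • Fr.b y') (t : F) :
    act hf g (M.X x y t) = M.X x' y' (l * H.σ m * k⁻¹ * (Fr.η y)⁻¹ * Fr.η y' * t) := by
  unfold Model.X
  rw [act_φ]
  exact congrArg M.φ (Subtype.ext (conj_X_sim Fr hg h h' hx hy t))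

theorem act_Z (hf : Full M) {g : ↥(Subgroup.normalizer (M.I : Set (V ≃ₗ[F] V)))} {x x' : Fin n × Bool}
    {q q' : Fr.Adm} (e : g.1 * Fr.Z x q * g.1⁻¹ = Fr.Z x' q') : act hf g (M.Z x q) = M.Z x' q' := by
  unfold Model.Z
  rw [act_φ]
  exact congrArg M.φ (Subtype.ext e)

/-- The hypotheses on the torus of diagonal similitudes and on the isometry `w`. -/
structure WDat (M : Model Fr K) (p : ℕ) (p0 : Fr.Adm) (DS : Subgroup (V ≃ₗ[F] V)) (Y : YC Fr E)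
    (w : V ≃ₗ[F] V) : Prop where
  full : Full M
  amb : Cfsg.Agent.Nodes.WittAll.AmbT Fr p M.I
  hp0 : p0.c ≠ 0
  dg : DG Fr M.I p0 p DS
  norm : DS ≤ Subgroup.normalizer (M.I : Set (V ≃ₗ[F] V))
  lin : ∀ g ∈ DS, YLin Y g
  semi : ∀ i, YSemi Y (nn Fr p0 i)
  fulA : ∀ d : Fin n → F, (∀ k, d k ≠ 0) → ∃ g ∈ DS, IsSim H 1 g ∧ (∀ k, g (Fr.b (k, true)) = d k • Fr.b (k, true)) ∧
    ∀ (k : Fin n) (q : Fr.Adm), d k = 1 → g * Fr.Z (k, true) q * g⁻¹ = Fr.Z (k, true) q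
  fulB : ∀ c : E, c ≠ 0 → ∃ g ∈ DS, (∀ k : Fin n, g (Fr.b (k, true)) = Fr.b (k, true)) ∧
    ∀ (k : Fin n) (a : E), g * Fr.Z (k, true) (Y.y a) * g⁻¹ = Fr.Z (k, true) (Y.y (c * a))
  wn : w ∈ Subgroup.normalizer (M.I : Set (V ≃ₗ[F] V))
  wi : H.IsIso w
  wm : Mono Fr w neg
  wy : ∀ (x : Fin n × Bool) (q : Fr.Adm), ∃ q', w * Fr.Z x q * w⁻¹ = Fr.Z (neg x) q'
  w2 : ∃ c : F, c ≠ 0 ∧ ∀ v, w (w v) = c • v
  wg : ∀ g ∈ DS, ∃ c : F, c ≠ 0 ∧ ∀ v, (w * g * w⁻¹) v = c • (g⁻¹ : V ≃ₗ[F] V) v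

namespace WDat

variable {p : ℕ} {p0 : Fr.Adm} {DS : Subgroup (V ≃ₗ[F] V)} {w : V ≃ₗ[F] V} (D : WDat M p p0 DS Y w)

/-- the element of the normaliser -/
def nrm (g : ↥DS) : ↥(Subgroup.normalizer (M.I : Set (V ≃ₗ[F] V))) := ⟨g.1, D.norm g.2⟩

theorem act_xb {b : Bool} {q : (Fin n × Bool) × (Fin n × Bool)} (hb : Cns b q) (g : ↥DS) :
    ∃ c : KB E F b, c ≠ 0 ∧ ∀ a, act D.full (D.nrm g) (xb M Y b q a) = xb M Y b q (c * a) := by
  rcases hb with ⟨rfl, -⟩ | ⟨rfl, h⟩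
  · obtain ⟨c, hc, e⟩ := D.lin g.1 g.2 q.1 q.1 _ (D.dg.cf_spec q.1 g)
    exact ⟨c, hc, fun a => act_Z D.full (g := D.nrm g) (e a)⟩
  · have hc : (D.dg.cf q.1 g : F) * H.σ (D.dg.cf q.2 g : F) * (D.dg.mu g)⁻¹ ≠ 0 :=
      mul_ne_zero (mul_ne_zero (Units.ne_zero _) (by simp)) (inv_ne_zero (D.dg.mu_spec g).ne)
    have ha : ∀ a : F, act D.full (D.nrm g) (M.X q.1 q.2 a) =
        M.X q.1 q.2 ((D.dg.cf q.1 g : F) * H.σ (D.dg.cf q.2 g : F) * (D.dg.mu g)⁻¹ * a) := by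
      intro a
      rw [act_X D.full (g := D.nrm g) (D.dg.mu_spec g) h h (D.dg.cf_spec q.1 g) (D.dg.cf_spec q.2 g) a]
      congr 1
      have := Fr.η_ne q.2
      field_simp
    exact ⟨_, hc, ha⟩

/-- conjugation by monomial isometries -/
theorem mono_xb (hf : Full M) {g : ↥(Subgroup.normalizer (M.I : Set (V ≃ₗ[F] V)))} (hg : H.IsIso g.1) (hs : YSemi Y g.1)
    {π : Fin n × Bool → Fin n × Bool} (hm : Mono Fr g.1 π) {b : Bool} {q q' : (Fin n × Bool) × (Fin n × Bool)}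
    (hb : Cns b q) (hb' : Cns b q') (e : (q'.1 = π q.1 ∧ q'.2 = π q.2) ∨ (q'.1 = π q.2 ∧ q'.2 = π q.1)) :
    ∃ (τ : KB E F b ≃+* KB E F b) (c : KB E F b), c ≠ 0 ∧
      ∀ a, act hf g (xb M Y b q a) = xb M Y b q' (c * τ a) := by
  rcases hb with ⟨rfl, h⟩ | ⟨rfl, h⟩
  · have hq : q'.1 = π q.1 := by
      rcases e with ⟨e1, -⟩ | ⟨e1, -⟩
      · exact e1
      · rw [e1, h]
    obtain ⟨l, -, hl⟩ := hm q.1
    rw [← hq] at hl
    obtain ⟨τ, c, hc, f⟩ := hs q.1 q'.1 l hl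
    exact ⟨τ, c, hc, fun a => act_Z hf (f a)⟩
  · have h' : q'.1.1 ≠ q'.2.1 := by
      rcases hb' with ⟨h1, -⟩ | ⟨-, h1⟩
      · exact absurd h1 (by decide)
      · exact h1
    obtain ⟨l, hl0, hl⟩ := hm q.1
    obtain ⟨m, hm0, hm'⟩ := hm q.2
    have h3 := H.ε_ne
    rcases e with ⟨e1, e2⟩ | ⟨e1, e2⟩
    · rw [← e1] at hl
      rw [← e2] at hm'
      have hc : l * H.σ m * (1 : F)⁻¹ * (Fr.η q.2)⁻¹ * Fr.η q'.2 ≠ 0 :=
        mul_ne_zero (mul_ne_zero (mul_ne_zero (mul_ne_zero hl0 (by simpa using hm0)) (by simp))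
          (inv_ne_zero (Fr.η_ne _))) (Fr.η_ne _)
      exact ⟨RingEquiv.refl F, _, hc, fun a => act_X hf (IsSim.of_iso hg) h h' hl hm' a⟩
    · rw [← e1] at hm'
      rw [← e2] at hl
      have hc : m * H.σ l * (1 : F)⁻¹ * (Fr.η q.1)⁻¹ * Fr.η q'.2 * -(H.ε⁻¹ * Fr.η q.1 * Fr.η q.2) ≠ 0 :=
        mul_ne_zero (mul_ne_zero (mul_ne_zero (mul_ne_zero (mul_ne_zero hm0 (by simpa using hl0)) (by simp))
          (inv_ne_zero (Fr.η_ne _))) (Fr.η_ne _)) (neg_ne_zero.2 (mul_ne_zero (mul_ne_zero (inv_ne_zero h3)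
            (Fr.η_ne _)) (Fr.η_ne _)))
      have ha : ∀ a : F, act hf g (M.X q.1 q.2 a) =
          M.X q'.1 q'.2 (m * H.σ l * (1 : F)⁻¹ * (Fr.η q.1)⁻¹ * Fr.η q'.2 * -(H.ε⁻¹ * Fr.η q.1 * Fr.η q.2) * H.σ a) := by
        intro a
        have h4 : M.X q.1 q.2 a = M.X q.2 q.1 (-(H.ε⁻¹ * Fr.η q.1 * Fr.η q.2 * H.σ a)) :=
          congrArg M.φ (Subtype.ext (Fr.X_swap h a))
        rw [h4, act_X hf (IsSim.of_iso hg) h.symm h' hm' hl _]
        congr 1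
        ring
      exact ⟨H.σ, _, hc, ha⟩

theorem mono_xb_nn (i : Fin n) {b : Bool} {q q' : (Fin n × Bool) × (Fin n × Bool)} (hb : Cns b q) (hb' : Cns b q')
    (e : (q'.1 = sg i q.1 ∧ q'.2 = sg i q.2) ∨ (q'.1 = sg i q.2 ∧ q'.2 = sg i q.1)) :
    ∃ (τ : KB E F b ≃+* KB E F b) (c : KB E F b), c ≠ 0 ∧
      ∀ a, act D.full ⟨nn Fr p0 i, Subgroup.le_normalizer (Cfsg.Agent.Nodes.WittAll.nn_mem D.amb p0 i)⟩
        (xb M Y b q a) = xb M Y b q' (c * τ a) :=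
  mono_xb D.full (D.amb.iso _ (Cfsg.Agent.Nodes.WittAll.nn_mem D.amb p0 i)) (D.semi i) (mono_nn D.hp0 i) hb hb' e

/-! ### the system of coordinates -/

section Sys

variable [NeZero n] {W : Type*} [Group W] (cs : CoxeterSystem (CoxeterMatrix.B n) W)

/-- the Weyl elements of `K` -/
noncomputable def nk (i : Fin n) : K := M.φ ⟨nn Fr p0 i, Cfsg.Agent.Nodes.WittAll.nn_mem D.amb p0 i⟩

theorem conj_eq (k : ↥M.I) : MulAut.conj (M.φ k) = act D.full ⟨k.1, Subgroup.le_normalizer k.2⟩ :=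
  (act_of_mem D.full k).symm

theorem cns_bool {b b' : Bool} {q q' : (Fin n × Bool) × (Fin n × Bool)} (hb : Cns b q) (hb' : Cns b' q')
    {π : Fin n × Bool → Fin n × Bool} (hπ : ∀ x y, (π x).1 = (π y).1 ↔ x.1 = y.1)
    (e : (q'.1 = π q.1 ∧ q'.2 = π q.2) ∨ (q'.1 = π q.2 ∧ q'.2 = π q.1)) : b' = b := by
  rcases hb with ⟨rfl, h⟩ | ⟨rfl, h⟩
  · rcases hb' with ⟨rfl, h'⟩ | ⟨rfl, h'⟩
    · rfl
    · exfalso
      apply h'
      rcases e with ⟨e1, e2⟩ | ⟨e1, e2⟩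
      · rw [e1, e2, h]
      · rw [e1, e2, h]
  · rcases hb' with ⟨rfl, h'⟩ | ⟨rfl, h'⟩
    · exfalso
      apply h
      rcases e with ⟨e1, e2⟩ | ⟨e1, e2⟩
      · rw [e1, e2] at h'
        exact (hπ _ _).1 (congrArg Prod.fst h')
      · rw [e1, e2] at h'
        exact ((hπ _ _).1 (congrArg Prod.fst h')).symm
    · rfl

theorem nact (i : Fin n) {z : Fin n → ℤ} (hz : IsRoot cs (isCartan n) z) :
    ∃ (τ : KB E F (lg z) ≃+* KB E F (lg (rep cs (isCartan n) (cs.simple i) z)))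
      (c : KB E F (lg (rep cs (isCartan n) (cs.simple i) z))), c ≠ 0 ∧
      ∀ a, D.nk i * xb M Y (lg z) (pr z) a * (D.nk i)⁻¹ =
        xb M Y (lg (rep cs (isCartan n) (cs.simple i) z)) (pr (rep cs (isCartan n) (cs.simple i) z)) (c * τ a) := by
  obtain ⟨h1, h2⟩ := pr_root hz
  have hz' := hz.act (cs.simple i)
  have h3 : ee (rep cs (isCartan n) (cs.simple i) z) = wt (sg i (pr z).1) + wt (sg i (pr z).2) := by
    rw [rep_simple]
    exact ee_refl_of h2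
  have h4 := pr_eq hz' (h1.sg i) h3
  have h5 : ((pr (rep cs (isCartan n) (cs.simple i) z)).1 = sg i (pr z).1 ∧
      (pr (rep cs (isCartan n) (cs.simple i) z)).2 = sg i (pr z).2) ∨
      ((pr (rep cs (isCartan n) (cs.simple i) z)).1 = sg i (pr z).2 ∧
      (pr (rep cs (isCartan n) (cs.simple i) z)).2 = sg i (pr z).1) := by
    rcases h4 with ⟨e1, e2⟩ | ⟨e1, e2⟩
    · exact Or.inl ⟨e1.symm, e2.symm⟩
    · exact Or.inr ⟨e2.symm, e1.symm⟩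
  have hb := cns_pr hz
  have hb' := cns_pr hz'
  have hbb := cns_bool hb hb' (fun x y => sg_fst_eq i) h5
  have key : ∀ a : K, D.nk i * a * (D.nk i)⁻¹ =
      act D.full ⟨nn Fr p0 i, Subgroup.le_normalizer (Cfsg.Agent.Nodes.WittAll.nn_mem D.amb p0 i)⟩ a := by
    intro a
    rw [← MulAut.conj_apply]
    exact congrArg (fun f : MulAut K => f a) (D.conj_eq ⟨nn Fr p0 i, Cfsg.Agent.Nodes.WittAll.nn_mem D.amb p0 i⟩)
  simp only [key]
  generalize pr (rep cs (isCartan n) (cs.simple i) z) = q' at h5 hb'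
  generalize lg (rep cs (isCartan n) (cs.simple i) z) = b' at hb' hbb
  subst hbb
  exact D.mono_xb_nn i hb hb' h5

include D in
theorem tact {z : Fin n → ℤ} (hz : IsRoot cs (isCartan n) z) {t : K} (ht : t ∈ Cfsg.Agent.Nodes.WittModel.T M) :
    ∃ c : KB E F (lg z), c ≠ 0 ∧ ∀ a, t * xb M Y (lg z) (pr z) a * t⁻¹ = xb M Y (lg z) (pr z) (c * a) := by
  obtain ⟨k, hk, rfl⟩ := ht
  have hk' : k.1 ∈ Tor Fr M.I := hk
  obtain ⟨c, hc, e⟩ := D.act_xb (cns_pr hz) ⟨k.1, D.dg.tor hk'⟩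
  refine ⟨c, hc, fun a => ?_⟩
  rw [← MulAut.conj_apply, D.conj_eq]
  exact e a

theorem sys : Cfsg.Agent.H928.Ad.Sys (K := KK E F) cs (isCartan n) (Cfsg.Agent.Nodes.WittModel.T M) D.nk
    (Cfsg.Agent.Nodes.WittModel.X M) (xc M Y) where
  mem _ hz k := mem_XM M Y hz k
  inj _ hz := xb_inj M Y D.full (cns_pr hz)
  add _ _ a b := xb_add M Y a b
  tor _ hz _ ht := D.tact cs hz ht
  nact i _ hz := D.nact cs i hz

/-- **the torus of the adjoint group** -/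
noncomputable def DD (D : WDat M p p0 DS Y w) : Subgroup (MulAut K) :=
  (DS.subgroupOf (Subgroup.normalizer (M.I : Set (V ≃ₗ[F] V)))).map (act D.full)

theorem mem_DD {β : MulAut K} : β ∈ D.DD ↔ ∃ g : ↥DS, act D.full (D.nrm g) = β := by
  constructor
  · rintro ⟨g, hg, rfl⟩
    exact ⟨⟨g.1, hg⟩, rfl⟩
  · rintro ⟨g, rfl⟩
    exact ⟨D.nrm g, g.2, rfl⟩

theorem DD_le : D.DD ≤ Cfsg.Agent.H928.Ad.Dg cs (isCartan n) (xc M Y) := by
  intro β hβ z hz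
  obtain ⟨g, rfl⟩ := D.mem_DD.1 hβ
  exact D.act_xb (cns_pr hz) g

include D in
theorem nn_norm (i : Fin n) : nn Fr p0 i ∈ Subgroup.normalizer (DS : Set (V ≃ₗ[F] V)) := by
  rw [Subgroup.mem_normalizer_iff]
  intro g
  refine ⟨fun hg => D.dg.nn i g hg, fun hg => ?_⟩
  have h1 := D.dg.nn i _ hg
  have h2 : nn Fr p0 i * nn Fr p0 i ∈ DS := by
    refine D.dg.tor ?_
    have := (Cfsg.Agent.Nodes.WittAll.nsysC D.amb D.hp0).rel i i
    rwa [(CoxeterMatrix.B n).diagonal, pow_one] at this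
  have h3 := mul_mem (mul_mem (inv_mem h2) h1) h2
  have e : (nn Fr p0 i * nn Fr p0 i)⁻¹ * (nn Fr p0 i * (nn Fr p0 i * g * (nn Fr p0 i)⁻¹) * (nn Fr p0 i)⁻¹) *
      (nn Fr p0 i * nn Fr p0 i) = g := by group
  rwa [e] at h3

theorem nk_norm (i : Fin n) : MulAut.conj (D.nk i) ∈ Subgroup.normalizer (D.DD : Set (MulAut K)) := by
  have h1 : MulAut.conj (D.nk i) =
      act D.full ⟨nn Fr p0 i, Subgroup.le_normalizer (Cfsg.Agent.Nodes.WittAll.nn_mem D.amb p0 i)⟩ :=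
    D.conj_eq ⟨nn Fr p0 i, Cfsg.Agent.Nodes.WittAll.nn_mem D.amb p0 i⟩
  rw [h1, mem_normalizer_iff_cj]
  unfold DD
  rw [cj_map, cj_subgroupOf]
  exact congrArg (fun S => Subgroup.map (act D.full) (Subgroup.subgroupOf S _)) (mem_normalizer_iff_cj.1 (D.nn_norm i))

/-! ### fullness -/

/-- the condition on an element of `DS` to act by a given scalar on a simple root group -/
theorem exists_cond (i : Fin n) (c : KB E F (lg (sr i))) (hc : c ≠ 0) :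
    ((i : ℕ) + 1 < n → ∃ v : F, v ≠ 0 ∧ ∀ g : ↥DS, (D.dg.cf (i, true) g : F) * H.σ (D.dg.cf (nx i) g : F) * (D.dg.mu g)⁻¹ = v →
      ∀ a, act D.full (D.nrm g) (xb M Y (lg (sr i)) (pr (sr i)) a) = xb M Y (lg (sr i)) (pr (sr i)) (c * a)) ∧
    (¬ (i : ℕ) + 1 < n → ∃ v : E, v ≠ 0 ∧ ∀ g : ↥DS,
      (∀ a, g.1 * Fr.Z (i, true) (Y.y a) * g.1⁻¹ = Fr.Z (i, true) (Y.y (v * a))) →
      ∀ a, act D.full (D.nrm g) (xb M Y (lg (sr i)) (pr (sr i)) a) = xb M Y (lg (sr i)) (pr (sr i)) (c * a)) := by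
  have hz := isRoot_sr (CoxeterMatrix.B n).toCoxeterSystem (isCartan n) i
  have h1 : (((i, true) : Fin n × Bool) = (pr (sr i)).1 ∧ nx i = (pr (sr i)).2) ∨
      (((i, true) : Fin n × Bool) = (pr (sr i)).2 ∧ nx i = (pr (sr i)).1) := by
    refine pr_eq hz (ok_nx i) ?_
    rw [ee_sr]
    rfl
  have hb := cns_pr hz
  generalize pr (sr i) = q at h1 hb
  generalize lg (sr i) = b at hb c hc
  constructor
  · intro hi
    have hnx : ((i, true) : Fin n × Bool).1 ≠ (nx i).1 := by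
      unfold nx; rw [dif_pos hi]; simp [Fin.ext_iff]
    have hq : q.1.1 ≠ q.2.1 := by
      rcases h1 with ⟨e1, e2⟩ | ⟨e1, e2⟩
      · rw [← e1, ← e2]; exact hnx
      · rw [← e1, ← e2]; exact hnx.symm
    rcases hb with ⟨-, h⟩ | ⟨rfl, -⟩
    · exact absurd (congrArg Prod.fst h) hq
    have key : ∀ g : ↥DS, ∀ a : F, act D.full (D.nrm g) (M.X q.1 q.2 a) =
        M.X q.1 q.2 ((D.dg.cf q.1 g : F) * H.σ (D.dg.cf q.2 g : F) * (D.dg.mu g)⁻¹ * a) := by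
      intro g a
      rw [act_X D.full (g := D.nrm g) (D.dg.mu_spec g) hq hq (D.dg.cf_spec q.1 g) (D.dg.cf_spec q.2 g) a]
      congr 1
      have := Fr.η_ne q.2
      field_simp
    rcases h1 with ⟨e1, e2⟩ | ⟨e1, e2⟩
    · refine ⟨(c : F), hc, fun g hg a => ?_⟩
      rw [e1, e2] at hg
      refine (key g a).trans ?_
      rw [hg]
      rfl
    · obtain ⟨c', hcc⟩ : ∃ c' : F, c' = c := ⟨c, rfl⟩
      have hc' : c' ≠ 0 := by rw [hcc]; exact hc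
      have hσ : H.σ c' ≠ 0 := by simpa using hc'
      refine ⟨H.σ c', hσ, fun g hg a => ?_⟩
      rw [e1, e2] at hg
      refine (key g a).trans ?_
      have h2 := congrArg H.σ hg
      rw [H.σσ, map_mul, map_mul, map_inv₀, H.σσ, (D.dg.mu_spec g).fix, mul_comm (H.σ _)] at h2
      rw [h2, ← hcc]
      rfl
  · intro hi
    have hnx : nx i = ((i, true) : Fin n × Bool) := by unfold nx; rw [dif_neg hi]
    rw [hnx] at h1
    have hq : q.1 = (i, true) ∧ q.2 = (i, true) := by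
      rcases h1 with ⟨e1, e2⟩ | ⟨e1, e2⟩
      · exact ⟨e1.symm, e2.symm⟩
      · exact ⟨e2.symm, e1.symm⟩
    rcases hb with ⟨rfl, -⟩ | ⟨-, h⟩
    · refine ⟨(c : E), hc, fun g hg a => ?_⟩
      refine (act_Z D.full (g := D.nrm g) (x := q.1) (x' := q.1) (q := Y.y a) (q' := Y.y ((c : E) * a)) ?_).trans rfl
      rw [hq.1]
      exact hg a
    · exact absurd (by rw [hq.1, hq.2]) h

theorem full' (c : ∀ i, KB E F (lg (sr i))) (hc : ∀ i, c i ≠ 0) :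
    ∃ g : ↥DS, ∀ i a, act D.full (D.nrm g) (xb M Y (lg (sr i)) (pr (sr i)) a) =
      xb M Y (lg (sr i)) (pr (sr i)) (c i * a) := by
  classical
  have h1 := fun i => (D.exists_cond i (c i) (hc i)).1
  have h2 := fun i => (D.exists_cond i (c i) (hc i)).2
  -- the targets
  have hv : ∃ v : Fin n → F, (∀ i, v i ≠ 0) ∧ (∀ i : Fin n, ¬ (i : ℕ) + 1 < n → v i = 1) ∧
      ∀ i : Fin n, (i : ℕ) + 1 < n → ∀ g : ↥DS,
        (D.dg.cf (i, true) g : F) * H.σ (D.dg.cf (nx i) g : F) * (D.dg.mu g)⁻¹ = v i →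
        ∀ a, act D.full (D.nrm g) (xb M Y (lg (sr i)) (pr (sr i)) a) = xb M Y (lg (sr i)) (pr (sr i)) (c i * a) := by
    have : ∀ i : Fin n, ∃ v : F, v ≠ 0 ∧ (¬ (i : ℕ) + 1 < n → v = 1) ∧ ((i : ℕ) + 1 < n → ∀ g : ↥DS,
        (D.dg.cf (i, true) g : F) * H.σ (D.dg.cf (nx i) g : F) * (D.dg.mu g)⁻¹ = v →
        ∀ a, act D.full (D.nrm g) (xb M Y (lg (sr i)) (pr (sr i)) a) =
          xb M Y (lg (sr i)) (pr (sr i)) (c i * a)) := by
      intro i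
      by_cases hi : (i : ℕ) + 1 < n
      · obtain ⟨v, hv, h⟩ := h1 i hi
        exact ⟨v, hv, fun h' => absurd hi h', fun _ => h⟩
      · exact ⟨1, one_ne_zero, fun _ => rfl, fun h' => absurd h' hi⟩
    choose v hv1 hv2 hv3 using this
    exact ⟨v, hv1, hv2, hv3⟩
  obtain ⟨v, hv0, hv1, hv2⟩ := hv
  obtain ⟨L, hL⟩ : ∃ L : Fin n, ¬ (L : ℕ) + 1 < n := ⟨⟨n - 1, by have := NeZero.pos n; omega⟩, by simp; omega⟩
  obtain ⟨cL, hcL0, hcL⟩ := h2 L hL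
  -- the coefficients
  obtain ⟨g1, hg1, s1, b1, z1⟩ := D.fulA (fun k => ∏ j ∈ Finset.Ici k, v j)
    (fun k => Finset.prod_ne_zero_iff.2 fun j _ => hv0 j)
  obtain ⟨g2, hg2, b2, z2⟩ := D.fulB cL hcL0
  have e1 : ∀ k : Fin n, (D.dg.cf (k, true) (⟨g1, hg1⟩ * ⟨g2, hg2⟩) : F) = ∏ j ∈ Finset.Ici k, v j := by
    intro k
    refine D.dg.cv_unique (k, true) (⟨g1, hg1⟩ * ⟨g2, hg2⟩) ?_
    change g1 (g2 (Fr.b (k, true))) = _
    rw [b2, b1]
  refine ⟨⟨g1, hg1⟩ * ⟨g2, hg2⟩, fun i => ?_⟩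
  by_cases hi : (i : ℕ) + 1 < n
  · refine hv2 i hi _ ?_
    have hnx : nx i = neg ((⟨i + 1, hi⟩, true) : Fin n × Bool) := by unfold nx; rw [dif_pos hi]; rfl
    rw [hnx, D.dg.cf_neg, e1, e1, map_mul, map_inv₀, H.σσ, (D.dg.mu_spec _).fix]
    have hne : (∏ j ∈ Finset.Ici (⟨i + 1, hi⟩ : Fin n), v j) ≠ 0 := Finset.prod_ne_zero_iff.2 fun j _ => hv0 j
    have hmu := (D.dg.mu_spec (⟨g1, hg1⟩ * ⟨g2, hg2⟩)).ne
    have hI : Finset.Ici i = insert i (Finset.Ici (⟨i + 1, hi⟩ : Fin n)) := by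
      ext j
      simp only [Finset.mem_Ici, Finset.mem_insert, Fin.le_def, Fin.ext_iff]
      omega
    rw [hI, Finset.prod_insert (by simp [Fin.le_def])]
    field_simp
  · have hiL : i = L := by
      apply Fin.ext
      have := i.2; have := L.2; omega
    subst hiL
    refine hcL _ fun a => ?_
    change (g1 * g2) * Fr.Z (i, true) (Y.y a) * (g1 * g2)⁻¹ = _
    have e3 : (g1 * g2) * Fr.Z (i, true) (Y.y a) * (g1 * g2)⁻¹ =
        g1 * (g2 * Fr.Z (i, true) (Y.y a) * g2⁻¹) * g1⁻¹ := by group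
    rw [e3, z2, z1]
    have hI : Finset.Ici i = {i} := by
      ext j
      simp only [Finset.mem_Ici, Finset.mem_singleton, Fin.le_def, Fin.ext_iff]
      have := j.2
      omega
    change ∏ j ∈ Finset.Ici i, v j = 1
    rw [hI, Finset.prod_singleton]
    exact hv1 i hL

/-- **the adjoint frame** -/
theorem data [Finite V] [Fact p.Prime] [CharP F p] (hZ : Subgroup.center K = ⊥) :
    Cfsg.Agent.H928.Ad.Data cs (isCartan n) p (Cfsg.Agent.Nodes.WittModel.T M) D.nk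
      (Cfsg.Agent.Nodes.WittModel.X M) (xc M Y) D.DD where
  rgd := Cfsg.Agent.Nodes.WittAll.rgdC_model M D.amb D.hp0 cs
  sys := D.sys cs
  g1 := Cfsg.Agent.Nodes.WittModel.G1_eq_top M (NeZero.pos n) cs
  cen := hZ
  le := D.DD_le cs
  tor := by
    rintro _ ⟨k, hk, rfl⟩
    have hk' : k.1 ∈ Tor Fr M.I := hk
    rw [D.mem_DD]
    exact ⟨⟨k.1, D.dg.tor hk'⟩, (D.conj_eq k).symm⟩
  norm := D.nk_norm
  full c hc := by
    obtain ⟨g, hg⟩ := D.full' c hc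
    exact ⟨act D.full (D.nrm g), D.mem_DD.2 ⟨g, rfl⟩, hg⟩

/-- the involution -/
noncomputable def om (D : WDat M p p0 DS Y w) : MulAut K := act D.full ⟨w, D.wn⟩

theorem om_sq : D.om * D.om = 1 := by
  obtain ⟨c, hc, e⟩ := D.w2
  unfold om
  rw [← map_mul, ← map_one (act D.full)]
  exact act_smul D.full hc (fun v => e v)

theorem om_X {z : Fin n → ℤ} (hz : IsRoot cs (isCartan n) z) {k : K}
    (hk : k ∈ Cfsg.Agent.Nodes.WittModel.X M z) : D.om k ∈ Cfsg.Agent.Nodes.WittModel.X M (-z) := by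
  obtain ⟨a, b, hab, e⟩ := exists_of_isRoot cs hz
  have e' : ee (-z) = wt (ng a) + wt (ng b) := by
    rw [ee_neg, e, wt_ng, wt_ng]; abel
  rw [Cfsg.Agent.Nodes.WittModel.mem_X] at hk ⊢
  obtain ⟨g, hg, h1, rfl⟩ := hk
  refine ⟨w * g * w⁻¹, (Subgroup.mem_normalizer_iff.1 D.wn g).1 hg, ?_, ?_⟩
  · rw [rg_eq Fr hab e] at h1
    rw [rg_eq Fr hab.ng e']
    rcases hab with h | rfl
    · rw [PG_ne Fr h] at h1
      rw [PG_ne Fr (a := ng a) (b := ng b) h]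
      obtain ⟨t, rfl⟩ := h1
      obtain ⟨l, -, hl⟩ := D.wm a
      obtain ⟨m, -, hm⟩ := D.wm b
      rw [conj_X_sim Fr (IsSim.of_iso D.wi) h (x' := neg a) (y' := neg b) h hl hm]
      exact ⟨_, rfl⟩
    · rw [PG_self] at h1 ⊢
      obtain ⟨q, rfl⟩ := h1
      obtain ⟨q', hq'⟩ := D.wy a q
      exact ⟨q', hq'⟩
  · unfold om
    rw [act_φ]
    rfl

theorem om_D {d : MulAut K} (hd : d ∈ D.DD) : D.om * d * D.om⁻¹ = d⁻¹ := by
  obtain ⟨g, rfl⟩ := D.mem_DD.1 hd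
  obtain ⟨c, hc, e⟩ := D.wg g.1 g.2
  unfold om
  rw [← map_inv, ← map_mul, ← map_inv, ← map_mul]
  exact act_smul D.full hc e

/-- **the anti-automorphism** -/
theorem anti [Finite V] [Fact p.Prime] [CharP F p] (hZ : Subgroup.center K = ⊥) :
    ∃ φ : ↥(Cfsg.Agent.H928.Ad.Gad D.DD) → ↥(Cfsg.Agent.H928.Ad.Gad D.DD),
      (∀ g, (φ g : MulAut K) = D.om * (g : MulAut K)⁻¹ * D.om⁻¹) ∧
      Cfsg.Agent.H92.GG.Anti cs (isCartan n) (Cfsg.Agent.H928.Ad.Tad D.DD)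
        (Cfsg.Agent.H928.Ad.Xad (Cfsg.Agent.Nodes.WittModel.X M) D.DD) φ :=
  (D.data cs hZ).anti D.om_sq (fun _ hz _ hk => D.om_X cs hz hk) (fun _ hd => D.om_D hd)

end Sys

end WDat

end Cfsg.Agent.H553.AF
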