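import Cfsg.Agent.H553.AF.Big
import Cfsg.Agent.H928.Ad.Grp

/-!
# The adjoint frame of a Witt model (S4884; helper553)

* `YC Fr E` : coordinates `y : E → Fr.Adm` of the type II root groups by a field `E`;
* `KB`, `pr`, `lg`, `xc` : coordinates of all root groups of the model;
* `sys` : `H928.Ad.Sys`; `data` : `H928.Ad.Data` for `D = act DS`; `anti` : the anti-automorphism.
-/

set_option autoImplicit false
set_option linter.unusedSectionVars false

namespace Cfsg.Agent.H553.AF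

open Cfsg.Agent.ChevalleyStructure.CoxeterGeom Cfsg.Agent.Tits.Roots Cfsg.Agent.Nodes.TypeC
open Cfsg.Agent.Nodes.Comb Cfsg.Agent.Nodes.Reps Cfsg.Agent.Nodes.WittRoot Cfsg.Agent.Nodes.BNOf
open Cfsg.Agent.Nodes.WittRGD Cfsg.Agent.Nodes.RGDLib Cfsg.Agent.Nodes.Bruhat
open Cfsg.Agent.TitsThree Cfsg.Agent.TitsThree.Siegel Cfsg.Agent.TitsThree.WittFrame
  Cfsg.Agent.TitsThree.WittWeyl Cfsg.Agent.TitsThree.FrameCN

universe v

/-! ### the fields -/

/-- two fields -/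
def KB (E F : Type v) : Bool → Type v
  | true => E
  | false => F

instance KB.field (E F : Type v) [Field E] [Field F] : ∀ b, Field (KB E F b)
  | true => inferInstanceAs (Field E)
  | false => inferInstanceAs (Field F)

variable {F : Type v} [Field F] {V : Type*} [AddCommGroup V] [Module F V] {H : HForm F V} {n : ℕ}
  {Fr : Frame H (Fin n)} {E : Type v} [Field E]

/-- coordinates of the admissible pairs by a field -/
structure YC (Fr : Frame H (Fin n)) (E : Type v) [Field E] where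
  y : E → Fr.Adm
  inj : Function.Injective y
  surj : Function.Surjective y
  add : ∀ a b, y (a + b) = y a * y b

theorem YC.zero (Y : YC Fr E) : Y.y 0 = 1 := by
  have := Y.add 0 0
  rwa [add_zero, left_eq_mul] at this

/-- `g` acts by a scalar on the type II coordinates -/
def YLin (Y : YC Fr E) (g : V ≃ₗ[F] V) : Prop :=
  ∀ x x' (l : F), g (Fr.b x) = l • Fr.b x' → ∃ c : E, c ≠ 0 ∧ ∀ a, g * Fr.Z x (Y.y a) * g⁻¹ = Fr.Z x' (Y.y (c * a))

/-- `g` acts by a scalar and an isomorphism of the field -/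
def YSemi (Y : YC Fr E) (g : V ≃ₗ[F] V) : Prop :=
  ∀ x x' (l : F), g (Fr.b x) = l • Fr.b x' → ∃ (τ : E ≃+* E) (c : E), c ≠ 0 ∧
    ∀ a, g * Fr.Z x (Y.y a) * g⁻¹ = Fr.Z x' (Y.y (c * τ a))

theorem YLin.semi {Y : YC Fr E} {g : V ≃ₗ[F] V} (h : YLin Y g) : YSemi Y g := fun x x' l e => by
  obtain ⟨c, hc, f⟩ := h x x' l e
  exact ⟨RingEquiv.refl E, c, hc, f⟩

/-! ### the pair of a root -/

/-- a pair of signed indices with `ee z = wt a + wt b` -/
noncomputable def pr [NeZero n] (z : Fin n → ℤ) : (Fin n × Bool) × (Fin n × Bool) := by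
  classical
  exact if h : ∃ q : (Fin n × Bool) × (Fin n × Bool), Ok q.1 q.2 ∧ ee z = wt q.1 + wt q.2 then h.choose
    else ((0, true), (0, true))

theorem pr_spec [NeZero n] {z : Fin n → ℤ} (h : ∃ a b : Fin n × Bool, Ok a b ∧ ee z = wt a + wt b) :
    Ok (pr z).1 (pr z).2 ∧ ee z = wt (pr z).1 + wt (pr z).2 := by
  have h' : ∃ q : (Fin n × Bool) × (Fin n × Bool), Ok q.1 q.2 ∧ ee z = wt q.1 + wt q.2 := by
    obtain ⟨a, b, h1, h2⟩ := h
    exact ⟨(a, b), h1, h2⟩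
  unfold pr
  rw [dif_pos h']
  exact h'.choose_spec

theorem pr_root [NeZero n] {W : Type*} [Group W] {cs : CoxeterSystem (CoxeterMatrix.B n) W} {z : Fin n → ℤ}
    (hz : IsRoot cs (isCartan n) z) : Ok (pr z).1 (pr z).2 ∧ ee z = wt (pr z).1 + wt (pr z).2 :=
  pr_spec (exists_of_isRoot cs hz)

/-- long (type II) roots -/
noncomputable def lg [NeZero n] (z : Fin n → ℤ) : Bool := decide ((pr z).1 = (pr z).2)

/-- the pair is determined up to order -/
theorem pr_eq [NeZero n] {W : Type*} [Group W] {cs : CoxeterSystem (CoxeterMatrix.B n) W} {z : Fin n → ℤ}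
    (hz : IsRoot cs (isCartan n) z) {a b : Fin n × Bool} (hab : Ok a b) (e : ee z = wt a + wt b) :
    (a = (pr z).1 ∧ b = (pr z).2) ∨ (a = (pr z).2 ∧ b = (pr z).1) := by
  obtain ⟨h1, h2⟩ := pr_root hz
  rcases wt_add_eq h1 hab (h2.symm.trans e) with ⟨e1, e2⟩ | ⟨e1, e2⟩
  · exact Or.inl ⟨e1.symm, e2.symm⟩
  · exact Or.inr ⟨e2.symm, e1.symm⟩

variable {K : Type*} [Group K] (M : Model Fr K) (Y : YC Fr E)

/-- the root element of a pair -/
def xb : (b : Bool) → (q : (Fin n × Bool) × (Fin n × Bool)) → KB E F b → K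
  | true, q, a => M.Z q.1 (Y.y a)
  | false, q, a => M.X q.1 q.2 a

/-- the fields of the roots -/
abbrev KK [NeZero n] (E F : Type v) (z : Fin n → ℤ) : Type v := KB E F (lg z)

/-- **the coordinates** -/
noncomputable def xc [NeZero n] (z : Fin n → ℤ) (a : KK E F z) : K := xb M Y (lg z) (pr z) a

/-- consistency of a boolean and a pair -/
def Cns (b : Bool) (q : (Fin n × Bool) × (Fin n × Bool)) : Prop :=
  (b = true ∧ q.1 = q.2) ∨ (b = false ∧ q.1.1 ≠ q.2.1)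

theorem cns_pr [NeZero n] {W : Type*} [Group W] {cs : CoxeterSystem (CoxeterMatrix.B n) W} {z : Fin n → ℤ}
    (hz : IsRoot cs (isCartan n) z) : Cns (lg z) (pr z) := by
  obtain ⟨h1, -⟩ := pr_root hz
  rcases h1 with h1 | h1
  · refine Or.inr ⟨?_, h1⟩
    unfold lg
    rw [decide_eq_false_iff_not]
    exact fun h => h1 (congrArg Prod.fst h)
  · refine Or.inl ⟨?_, h1⟩
    unfold lg
    rw [decide_eq_true_iff]
    exact h1

attribute [irreducible] lg pr

variable {M} in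
theorem X_inj (hf : Full M) {x y : Fin n × Bool} (h : x.1 ≠ y.1) {s t : F} (e : M.X x y s = M.X x y t) : s = t := by
  have _ := hf
  have h1 : M.φ (⟨Fr.X x y s, M.hX _ _ _⟩⁻¹ * ⟨Fr.X x y t, M.hX _ _ _⟩) = 1 := by
    rw [map_mul, map_inv]
    exact inv_mul_eq_one.2 e
  obtain ⟨a, ha⟩ : ∃ a : F, (Fr.X x y s)⁻¹ * Fr.X x y t = (Fr.X x y s)⁻¹ * Fr.X x y t ∧
      ((Fr.X x y s)⁻¹ * Fr.X x y t) (Fr.b (neg y)) = a • Fr.b (neg y) := by
    obtain ⟨a, ha⟩ := M.ker (Fr.b (neg y)) _ h1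
    exact ⟨a, rfl, ha⟩
  have h2 : (Fr.X x y s)⁻¹ * Fr.X x y t = Fr.X x y (t - s) := by
    rw [← Fr.X_neg, ← Fr.X_add, neg_add_eq_sub]
  rw [h2, X_apply_neg Fr h] at ha
  have h3 : (t - s) • Fr.b x = (a - 1) • Fr.b (neg y) := by
    rw [sub_smul a, one_smul, ← ha.2]; abel
  have h4 := congrArg (fun v => H.h v (Fr.b (neg x))) h3
  simp only [H.smul_left] at h4
  have h5 : H.h (Fr.b (neg y)) (Fr.b (neg x)) = 0 := Fr.hb_of_ne (fun h' => h h'.symm)
  rw [h5, mul_zero, Fr.hb_self_neg] at h4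
  rcases mul_eq_zero.1 h4 with h6 | h6
  · exact (sub_eq_zero.1 h6).symm
  · exact absurd h6 (Fr.η_ne _)

variable {M} in
theorem Z_inj (hf : Full M) (x : Fin n × Bool) {p q : Fr.Adm} (e : M.Z x p = M.Z x q) : p = q := by
  have _ := hf
  have h1 : M.φ (⟨Fr.Z x p, M.hZ _ _⟩⁻¹ * ⟨Fr.Z x q, M.hZ _ _⟩) = 1 := by
    rw [map_mul, map_inv]
    exact inv_mul_eq_one.2 e
  obtain ⟨a, ha⟩ : ∃ a : F, ((Fr.Z x p)⁻¹ * Fr.Z x q) (Fr.b (neg x)) = a • Fr.b (neg x) := by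
    obtain ⟨a, ha⟩ := M.ker (Fr.b (neg x)) _ h1
    exact ⟨a, ha⟩
  have h2 : (Fr.Z x p)⁻¹ * Fr.Z x q = Fr.Z x (p⁻¹ * q) := by
    rw [Fr.Z_mul, Fr.Z_inv]
  rw [h2, Z_apply_neg] at ha
  set r := p⁻¹ * q with hr
  have hrw : r.w ∈ Fr.V0 := Fr.ok_mem r.ok
  -- the coefficient of `b (neg x)`
  have ha1 : a = 1 := by
    have h4 := congrArg (fun v => H.h v (Fr.b x)) ha
    simp only [H.add_left, H.smul_left] at h4
    rw [Fr.h0' x hrw, Fr.hb_self, mul_zero, mul_zero, add_zero, add_zero] at h4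
    have h5 : H.h (Fr.b (neg x)) (Fr.b x) ≠ 0 := by rw [Fr.hb_neg_self]; exact Fr.η_ne x
    have h6 : (a - 1) * H.h (Fr.b (neg x)) (Fr.b x) = 0 := by rw [sub_mul, ← h4]; ring
    exact sub_eq_zero.1 ((mul_eq_zero.1 h6).resolve_right h5)
  rw [ha1, one_smul, add_assoc, add_eq_left] at ha
  have hc : r.c = 0 := by
    have h4 := congrArg (fun v => H.h v (Fr.b (neg x))) ha
    simp only [H.add_left, H.smul_left, H.zero_left] at h4
    rw [Fr.h0' _ hrw, mul_zero, zero_add, Fr.hb_self_neg] at h4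
    rcases mul_eq_zero.1 h4 with h6 | h6
    · exact (mul_eq_zero.1 h6).resolve_right (Fr.η_ne x)
    · exact absurd h6 (Fr.η_ne _)
  have hw : r.w = 0 := by
    rw [hc, zero_mul, zero_smul, add_zero] at ha
    exact (smul_eq_zero.1 ha).resolve_left (Fr.η_ne x)
  have h7 : r = 1 := Frame.Adm.ext hw hc
  rw [hr, inv_mul_eq_one] at h7
  exact h7

theorem xb_inj (hf : Full M) {b : Bool} {q : (Fin n × Bool) × (Fin n × Bool)} (hb : Cns b q) :
    Function.Injective (xb M Y b q) := by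
  rcases hb with ⟨rfl, -⟩ | ⟨rfl, h⟩
  · exact fun s t e => Y.inj (Z_inj hf q.1 e)
  · exact fun s t e => X_inj hf h e

theorem xb_add {b : Bool} {q : (Fin n × Bool) × (Fin n × Bool)} (s t : KB E F b) :
    xb M Y b q (s + t) = xb M Y b q s * xb M Y b q t := by
  cases b
  · change M.φ _ = M.φ _ * M.φ _
    rw [← map_mul]
    exact congrArg M.φ (Subtype.ext (Fr.X_add q.1 q.2 s t))
  · change M.φ _ = M.φ _ * M.φ _
    rw [← map_mul]
    refine congrArg M.φ (Subtype.ext ?_)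
    change Fr.Z q.1 (Y.y (s + t)) = Fr.Z q.1 (Y.y s) * Fr.Z q.1 (Y.y t)
    rw [← Fr.Z_mul]
    exact congrArg _ (Y.add s t)

/-- the root groups -/
theorem mem_XM [NeZero n] {W : Type*} [Group W] {cs : CoxeterSystem (CoxeterMatrix.B n) W} {z : Fin n → ℤ}
    (hz : IsRoot cs (isCartan n) z) (k : K) :
    k ∈ Cfsg.Agent.Nodes.WittModel.X M z ↔ ∃ a : KK E F z, xc M Y z a = k := by
  obtain ⟨h1, h2⟩ := pr_root hz
  have h3 := cns_pr hz
  rw [Cfsg.Agent.Nodes.WittModel.mem_X]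
  unfold xc KK
  rw [rg_eq Fr h1 h2]
  generalize lg z = b at h3
  generalize pr z = q at h1 h2 h3
  rcases h3 with ⟨rfl, h⟩ | ⟨rfl, h⟩
  · have e1 : PG Fr q.1 q.2 = ZG Fr q.1 := by rw [← h]; exact PG_self Fr q.1
    rw [e1]
    constructor
    · rintro ⟨g, hg, ⟨r, rfl⟩, rfl⟩
      obtain ⟨a, rfl⟩ := Y.surj r
      exact ⟨a, rfl⟩
    · rintro ⟨a, rfl⟩
      exact ⟨_, M.hZ _ _, ⟨_, rfl⟩, rfl⟩
  · rw [PG_ne Fr h]
    constructor
    · rintro ⟨g, hg, ⟨t, rfl⟩, rfl⟩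
      exact ⟨t, rfl⟩
    · rintro ⟨a, rfl⟩
      exact ⟨_, M.hX _ _ _, ⟨_, rfl⟩, rfl⟩

end Cfsg.Agent.H553.AF
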